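import Groth.Agent.LabG.Basic
import Mathlib

/-!
# The Basic Inequality: existence, normal form, moving along an extremal subcurve
-/

set_option autoImplicit false

universe u

open Finset

namespace Groth.Agent.LabG

variable {V E : Type u} [Fintype V] [Fintype E] [DecidableEq V] [DecidableEq E] (ends : E → V × V) (w : V → ℕ)

local notation "K" => LabGraph.canDeg ends w Finset.univ

omit [DecidableEq E] in
/-- Twisting by an extremal set keeps the Basic Inequality. -/
theorem BI_twist (d : V → ℤ) (hK : 0 ≤ K) (hBI : LabGraph.SatisfiesBI ends w d) (Z : Finset V)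
    (hZ : 2 * (K * (∑ v ∈ Z, d v) - (∑ v : V, d v) * LabGraph.canDeg ends w Z) = (LabGraph.cut ends Z : ℤ) * K) :
    LabGraph.SatisfiesBI ends w (fun v => d v + LabGraph.twist ends (fun u => if u ∈ Z then 1 else 0) v) := by
  classical
  intro Y
  set D := ∑ v : V, d v with hD
  set c : V → ℤ := fun v => 2 * (w v : ℤ) - 2 + (LabGraph.endCount ends univ v : ℤ)
  have hc : ∀ S, LabGraph.canDeg ends w S = ∑ v ∈ S, c v := fun S => rfl
  set r : V → ℤ := fun v => K * d v - D * c v
  have hr : ∀ S : Finset V, K * (∑ v ∈ S, d v) - D * LabGraph.canDeg ends w S = ∑ v ∈ S, r v := fun S => by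
    rw [hc S, mul_sum, mul_sum, ← sum_sub_distrib]
  have hup : ∀ S : Finset V, 2 * ∑ v ∈ S, r v ≤ LabGraph.cut ends S * K := fun S => by
    rw [← hr]; exact le_trans (mul_le_mul_of_nonneg_left (le_abs_self _) (by norm_num)) (hBI S)
  have hlo : ∀ S : Finset V, -(LabGraph.cut ends S * K) ≤ 2 * ∑ v ∈ S, r v := fun S => by
    rw [neg_le, ← mul_neg, ← hr]
    exact le_trans (mul_le_mul_of_nonneg_left (neg_le_abs _) (by norm_num)) (hBI S)
  rw [hr] at hZ
  set t := fun v => LabGraph.twist ends (fun u => if u ∈ Z then (1 : ℤ) else 0) v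
  have hnew : K * (∑ v ∈ Y, (d v + t v)) - (∑ v : V, (d v + t v)) * LabGraph.canDeg ends w Y =
      ∑ v ∈ Y, r v + K * ∑ v ∈ Y, t v := by
    rw [sum_add_distrib, sum_add_distrib, sum_twist, add_zero, ← hD, ← hr Y]; ring
  have hYsplit : ∑ v ∈ Y, r v = ∑ v ∈ Y ∩ Z, r v + ∑ v ∈ Y \ Z, r v := (sum_inter_add_sum_sdiff Y Z r).symm
  have hUsplit : ∑ v ∈ Y ∪ Z, r v = ∑ v ∈ Y \ Z, r v + ∑ v ∈ Z, r v := by
    rw [← sum_union sdiff_disjoint, sdiff_union_self_eq_union]
  have hZsplit : ∑ v ∈ Z, r v = ∑ v ∈ Y ∩ Z, r v + ∑ v ∈ Z \ Y, r v := by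
    rw [inter_comm]; exact (sum_inter_add_sum_sdiff Z Y r).symm
  have key1 : (LabGraph.cut ends (Y ∪ Z) : ℤ) - LabGraph.cut ends Z + LabGraph.cut ends (Y ∩ Z)
      + 2 * ∑ v ∈ Y, t v ≤ LabGraph.cut ends Y := by
    simp only [t, cast_cut, sum_twist_finset, mul_sum, ← sum_sub_distrib, ← sum_add_distrib]
    refine sum_le_sum fun e _ => ?_
    by_cases h1 : (ends e).1 ∈ Y <;> by_cases h2 : (ends e).2 ∈ Y <;>
      by_cases h3 : (ends e).1 ∈ Z <;> by_cases h4 : (ends e).2 ∈ Z <;> simp [h1, h2, h3, h4]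
  have key2 : -(LabGraph.cut ends Y : ℤ) ≤ (LabGraph.cut ends Z : ℤ) - LabGraph.cut ends (Z \ Y)
      - LabGraph.cut ends (Y \ Z) + 2 * ∑ v ∈ Y, t v := by
    simp only [t, cast_cut, sum_twist_finset, mul_sum, ← sum_sub_distrib, ← sum_add_distrib, ← sum_neg_distrib]
    refine sum_le_sum fun e _ => ?_
    by_cases h1 : (ends e).1 ∈ Y <;> by_cases h2 : (ends e).2 ∈ Y <;>
      by_cases h3 : (ends e).1 ∈ Z <;> by_cases h4 : (ends e).2 ∈ Z <;> simp [h1, h2, h3, h4]
  have m1 := mul_le_mul_of_nonneg_right key1 hK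
  have m2 := mul_le_mul_of_nonneg_right key2 hK
  change 2 * |K * (∑ v ∈ Y, (d v + t v)) - (∑ v : V, (d v + t v)) * LabGraph.canDeg ends w Y| ≤ _
  rw [hnew]
  have u1 := hup (Y ∪ Z)
  have u2 := hup (Y ∩ Z)
  have l1 := hlo (Z \ Y)
  have l2 := hlo (Y \ Z)
  have u3 := hup (Z \ Y)
  rcases abs_cases (∑ v ∈ Y, r v + K * ∑ v ∈ Y, t v) with ⟨he, -⟩ | ⟨he, -⟩ <;> rw [he] <;> nlinarith

omit [DecidableEq E] in
/-- Every degree class contains a balanced representative. -/
theorem exists_BI (hconn : LabGraph.Connected ends) (hK : 0 < K) (d : V → ℤ) :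
    ∃ d' : V → ℤ, LabGraph.TwistEquiv ends d' d ∧ LabGraph.SatisfiesBI ends w d' := by
  classical
  set D := ∑ v : V, d v with hD
  set c : V → ℤ := fun v => 2 * (w v : ℤ) - 2 + (LabGraph.endCount ends univ v : ℤ)
  have hc : ∀ S, LabGraph.canDeg ends w S = ∑ v ∈ S, c v := fun S => rfl
  set r : V → ℤ := fun v => K * d v - D * c v
  have hr0 : ∑ v, r v = 0 := by
    simp only [r, sum_sub_distrib, ← mul_sum, ← hc, ← hD]; ring
  let En : (V → ℤ) → ℤ := fun φ => K * ∑ e : E, (φ (ends e).1 - φ (ends e).2) ^ 2 - 2 * ∑ v, r v * φ v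
  set R := ∑ v, |r v|
  have hR : 0 ≤ R := sum_nonneg fun v _ => abs_nonneg _
  obtain ⟨v₀⟩ := hconn.1
  have hbd : ∀ φ, -((Fintype.card E : ℤ) * (R * (Fintype.card V + 1)) ^ 2) ≤ En φ := by
    intro φ
    set δ := fun e => |φ (ends e).1 - φ (ends e).2|
    set M := ∑ e, δ e
    have hM : ∀ e, δ e ≤ M := fun e => single_le_sum (fun e _ => abs_nonneg _) (mem_univ e)
    have hedge : ∀ v, |φ v - φ v₀| ≤ Fintype.card V * M := by
      intro v
      -- vertices within distance `k` of `v₀`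
      let B : ℕ → Finset V := fun k => univ.filter fun v => |φ v - φ v₀| ≤ k * M
      have hB : ∀ k, k ≤ Fintype.card V → (k < (B k).card ∨ B k = univ) := by
        intro k
        induction k with
        | zero => exact fun _ => Or.inl (card_pos.2 ⟨v₀, by simp [B]⟩)
        | succ k ih =>
          intro hk
          have hmono : B k ⊆ B (k + 1) := fun x hx => by
            simp only [B, mem_filter, mem_univ, true_and] at hx ⊢
            have : 0 ≤ M := sum_nonneg fun e _ => abs_nonneg _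
            push_cast; linarith
          rcases ih (by omega) with h | h
          swap
          · exact Or.inr (univ_subset_iff.1 (h ▸ hmono))
          by_cases hall : B (k + 1) = univ
          · exact Or.inr hall
          refine Or.inl (lt_of_le_of_lt (Nat.succ_le_of_lt h) (card_lt_card ⟨hmono, fun hsub => hall ?_⟩))
          refine eq_univ_iff_forall.2 fun x => ?_
          induction hconn.2 v₀ x with
          | refl => exact hmono (by simp [B]; positivity)
          | @tail a b _ hab ih' =>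
            have hd : |φ b - φ a| ≤ M := by
              obtain ⟨e, h1 | h1⟩ := hab
              · have := hM e; simp only [δ, h1] at this; rwa [abs_sub_comm]
              · have := hM e; simp only [δ, h1] at this; exact this
            have ha := hsub ih'
            simp only [B, mem_filter, mem_univ, true_and] at ha ⊢
            have := abs_sub_le (φ b) (φ a) (φ v₀)
            push_cast; linarith
      rcases hB (Fintype.card V) le_rfl with h | h
      · exact absurd h (not_lt.2 (card_le_univ _))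
      · have := mem_univ v
        rw [← h] at this
        simpa [B] using this
    have h1 : ∑ v, r v * φ v ≤ R * (Fintype.card V * M) := by
      calc ∑ v, r v * φ v = ∑ v, r v * (φ v - φ v₀) := by
            simp only [mul_sub, sum_sub_distrib, ← sum_mul, hr0, zero_mul, sub_zero]
        _ ≤ ∑ v, |r v| * |φ v - φ v₀| := sum_le_sum fun v _ => (le_abs_self _).trans (abs_mul _ _).le
        _ ≤ ∑ v, |r v| * (Fintype.card V * M) := sum_le_sum fun v _ =>
            mul_le_mul_of_nonneg_left (hedge v) (abs_nonneg _)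
        _ = _ := (sum_mul _ _ _).symm
    set A := R * (Fintype.card V + 1 : ℤ)
    have hA : R * Fintype.card V ≤ A := by simp only [A]; linarith
    have h2 : ∀ e, 2 * A * δ e - A ^ 2 ≤ K * (φ (ends e).1 - φ (ends e).2) ^ 2 := fun e => by
      rw [← sq_abs (φ (ends e).1 - φ (ends e).2)]
      nlinarith [sq_nonneg (A - δ e), sq_nonneg (δ e)]
    have h3 := sum_le_sum fun e (_ : e ∈ univ) => h2 e
    rw [sum_sub_distrib, ← mul_sum, ← mul_sum, sum_const, card_univ, nsmul_eq_mul] at h3
    have hM0 : 0 ≤ M := sum_nonneg fun e _ => abs_nonneg _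
    have h4 : R * (Fintype.card V * M) ≤ A * M := by
      rw [← mul_assoc]; exact mul_le_mul_of_nonneg_right hA hM0
    show _ ≤ K * _ - 2 * _
    linarith
  obtain ⟨_, ⟨φ, rfl⟩, hmin⟩ := Int.exists_least_of_bdd (P := fun z => ∃ φ, En φ = z)
    ⟨_, fun z hz => by obtain ⟨φ, rfl⟩ := hz; exact hbd φ⟩ ⟨_, 0, rfl⟩
  set d' := fun v => d v + LabGraph.twist ends φ v
  refine ⟨d', ⟨φ, fun v => by simp [d']⟩, fun Y => ?_⟩
  set y : V → ℤ := fun v => if v ∈ Y then 1 else 0
  have hy : ∑ v, r v * y v = ∑ v ∈ Y, r v := by simp [y, mul_ite, sum_ite_mem]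
  have hexp : ∀ s : ℤ, (s = 1 ∨ s = -1) → En (φ + s • y) = En φ + K * LabGraph.cut ends Y
      - 2 * s * (∑ v ∈ Y, r v + K * ∑ v ∈ Y, LabGraph.twist ends φ v) := by
    intro s hs
    have hs2 : s * s = 1 := by rcases hs with rfl | rfl <;> norm_num
    simp only [En, Pi.add_apply, Pi.smul_apply, smul_eq_mul, sum_twist_finset, cast_cut, ← hy, mul_add, mul_sum,
      sum_add_distrib]
    rw [show ∑ e : E, K * (φ (ends e).1 + s * y (ends e).1 - (φ (ends e).2 + s * y (ends e).2)) ^ 2 =
      ∑ e : E, K * (φ (ends e).1 - φ (ends e).2) ^ 2 + ∑ e : E, K * (y (ends e).1 - y (ends e).2) ^ 2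
        - ∑ e : E, 2 * s * (K * ((y (ends e).1 - y (ends e).2) * (φ (ends e).2 - φ (ends e).1))) by
      rw [← sum_add_distrib, ← sum_sub_distrib]
      refine sum_congr rfl fun e _ => ?_
      linear_combination (K * (y (ends e).1 - y (ends e).2) ^ 2) * hs2]
    rw [show ∑ v, 2 * (r v * (s * y v)) = ∑ v, 2 * s * (r v * y v) from sum_congr rfl fun v _ => by ring]
    ring
  have hd' : ∑ v, d' v = D := by simp only [d', sum_add_distrib, sum_twist, add_zero, ← hD]
  have hval : K * (∑ v ∈ Y, d' v) - (∑ v, d' v) * LabGraph.canDeg ends w Y =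
      ∑ v ∈ Y, r v + K * ∑ v ∈ Y, LabGraph.twist ends φ v := by
    rw [hd']; simp only [d', r, sum_add_distrib, sum_sub_distrib, ← mul_sum, ← hc]; ring
  rw [hval]
  have p1 := hmin _ ⟨φ + (1 : ℤ) • y, rfl⟩
  have p2 := hmin _ ⟨φ + (-1 : ℤ) • y, rfl⟩
  rw [hexp 1 (Or.inl rfl)] at p1
  rw [hexp (-1) (Or.inr rfl)] at p2
  rcases abs_cases (∑ v ∈ Y, r v + K * ∑ v ∈ Y, LabGraph.twist ends φ v) with ⟨he, -⟩ | ⟨he, -⟩ <;>
    rw [he] <;> linarith

omit [DecidableEq E] in
/-- Normal form for the difference of two balanced multidegrees in one class. -/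
theorem normalForm (hconn : LabGraph.Connected ends) (hK : 0 < K) (d d' : V → ℤ)
    (hBI : LabGraph.SatisfiesBI ends w d) (hBI' : LabGraph.SatisfiesBI ends w d')
    (heq : LabGraph.TwistEquiv ends d d') :
    ∃ (q : ℕ) (h : V → ℕ), (∀ v, h v ≤ q) ∧ (∀ i : ℕ, i ≤ q → ∃ v, h v = i) ∧
      (∀ v, d v - d' v = LabGraph.twist ends (fun u => (h u : ℤ)) v) ∧
      (∀ i j : ℕ, i ≤ q → j ≤ q → i ≠ j →
        ((∃ e : E, (h (ends e).1 = i ∧ h (ends e).2 = j) ∨ (h (ends e).1 = j ∧ h (ends e).2 = i)) ↔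
          (i + 1 = j ∨ j + 1 = i))) := by
  classical
  obtain ⟨φ, hφ⟩ := heq
  haveI := hconn.1
  obtain ⟨m, hm⟩ := Finite.exists_min φ
  set h : V → ℕ := fun v => (φ v - φ m).toNat
  have hh : ∀ v, (h v : ℤ) = φ v - φ m := fun v => Int.toNat_of_nonneg (by linarith [hm v])
  have htw : ∀ v, d v - d' v = LabGraph.twist ends (fun u => (h u : ℤ)) v := fun v => by
    rw [hφ, show (fun u => (h u : ℤ)) = φ + (fun _ => -φ m) from funext fun u => by
      rw [hh]; simp [sub_eq_add_neg], twist_add, twist_const, add_zero]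
  have hsum : ∑ v, d v = ∑ v, d' v := by
    rw [← sub_eq_zero, ← sum_sub_distrib, sum_congr rfl fun v _ => htw v, sum_twist]
  have step : ∀ Y : Finset V,
      ∑ e : E, ((if (ends e).1 ∈ Y then (1 : ℤ) else 0) - (if (ends e).2 ∈ Y then 1 else 0)) *
        ((h (ends e).2 : ℤ) - h (ends e).1) ≤ LabGraph.cut ends Y := by
    intro Y
    rw [← sum_twist_finset ends Y (fun u => (h u : ℤ)), ← sum_congr rfl fun v _ => htw v, sum_sub_distrib]
    have a1 := hBI Y
    have a2 := hBI' Y
    rw [← hsum] at a2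
    have b1 := le_abs_self (K * (∑ v ∈ Y, d v) - (∑ v : V, d v) * LabGraph.canDeg ends w Y)
    have b2 := neg_le_abs (K * (∑ v ∈ Y, d' v) - (∑ v : V, d v) * LabGraph.canDeg ends w Y)
    refine le_of_mul_le_mul_left ?_ hK
    linarith
  have gap : ∀ e, h (ends e).2 ≤ h (ends e).1 + 1 ∧ h (ends e).1 ≤ h (ends e).2 + 1 := by
    intro e₀
    by_contra hbad
    set i := min (h (ends e₀).1) (h (ends e₀).2) with hi
    have := step (univ.filter fun v => h v ≤ i)
    rw [cast_cut] at this
    refine not_lt.2 this (sum_lt_sum (fun e _ => ?_) ⟨e₀, mem_univ _, ?_⟩)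
    · simp only [mem_filter, mem_univ, true_and]
      split_ifs <;> push_cast <;> omega
    · simp only [mem_filter, mem_univ, true_and]
      split_ifs <;> push_cast <;> omega
  obtain ⟨M, hM⟩ := Finite.exists_max h
  have hlev : ∀ i, i < h M → ∃ e : E, (h (ends e).1 = i ∧ h (ends e).2 = i + 1) ∨
      (h (ends e).1 = i + 1 ∧ h (ends e).2 = i) := by
    intro i hi
    by_contra! hno
    have hcl : ∀ v, h v ≤ i := by
      intro v
      have hm0 : h m = 0 := by simp [h]
      induction hconn.2 m v with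
      | refl => omega
      | @tail a b _ hab ih =>
        obtain ⟨e, he | he⟩ := hab <;>
        · have g := gap e
          have n := hno e
          simp only [he] at g n
          omega
    exact absurd (hcl M) (not_le.2 hi)
  refine ⟨h M, h, hM, fun i hi => ?_, htw, fun i j hi hj hij => ⟨?_, ?_⟩⟩
  · rcases hi.lt_or_eq with hlt | rfl
    · obtain ⟨e, he | he⟩ := hlev i hlt
      exacts [⟨_, he.1⟩, ⟨_, he.2⟩]
    · exact ⟨M, rfl⟩
  · rintro ⟨e, ⟨a, b⟩ | ⟨a, b⟩⟩ <;> have g := gap e <;> omega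
  · rintro (rfl | rfl)
    · obtain ⟨e, he⟩ := hlev i hj
      exact ⟨e, he⟩
    · obtain ⟨e, he⟩ := hlev j hi
      exact ⟨e, he.symm⟩

end Groth.Agent.LabG
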