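import Groth.Prelude.Def_W4c4cptpiccptjacBI
import Mathlib.Algebra.BigOperators.Ring.Finset
import Mathlib.Algebra.Order.BigOperators.Group.Finset
import Mathlib.Tactic.Ring
import Mathlib.Tactic.Linarith

/-!
# Double counting on finite multigraphs
-/

set_option autoImplicit false

universe u

open Finset

namespace Groth.Agent.LabG

variable {V E : Type u} [Fintype V] [Fintype E] [DecidableEq V] [DecidableEq E] (ends : E → V × V)

omit [DecidableEq E] in
/-- Sum over edge-ends regrouped by edges. -/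
theorem sum_mul_ends (F : V → ℤ) (x y : E → ℤ) :
    ∑ v : V, F v * ∑ e : E, ((if (ends e).1 = v then x e else 0) + (if (ends e).2 = v then y e else 0)) =
      ∑ e : E, (F (ends e).1 * x e + F (ends e).2 * y e) := by
  simp only [mul_sum, mul_add, mul_ite, mul_zero]
  rw [sum_comm]
  refine sum_congr rfl fun e _ => ?_
  rw [sum_add_distrib, sum_ite_eq, sum_ite_eq]
  simp

omit [DecidableEq E] in
theorem sum_mul_mdeg (l : E → ℕ) (F φ : V → ℤ) :
    ∑ v : V, F v * LabGraph.mdeg ends l φ v =
      ∑ e : E, (F (ends e).1 * ((φ (ends e).2 - φ (ends e).1) / (l e : ℤ)) +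
        F (ends e).2 * ((φ (ends e).1 - φ (ends e).2) / (l e : ℤ))) :=
  sum_mul_ends ends F _ _

omit [DecidableEq E] in
theorem sum_mul_twist (F φ : V → ℤ) :
    ∑ v : V, F v * LabGraph.twist ends φ v =
      ∑ e : E, (F (ends e).1 - F (ends e).2) * (φ (ends e).2 - φ (ends e).1) := by
  rw [show (∑ v : V, F v * LabGraph.twist ends φ v) = _ from sum_mul_ends ends F _ _]
  exact sum_congr rfl fun e _ => by ring

omit [DecidableEq E] in
theorem sum_twist_finset (Y : Finset V) (φ : V → ℤ) :
    ∑ v ∈ Y, LabGraph.twist ends φ v =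
      ∑ e : E, ((if (ends e).1 ∈ Y then (1 : ℤ) else 0) - (if (ends e).2 ∈ Y then 1 else 0)) *
        (φ (ends e).2 - φ (ends e).1) := by
  rw [← sum_mul_twist ends (fun v => if v ∈ Y then (1 : ℤ) else 0)]
  simp [ite_mul, sum_ite_mem]

omit [DecidableEq E] in
theorem sum_twist (φ : V → ℤ) : ∑ v : V, LabGraph.twist ends φ v = 0 := by
  rw [sum_twist_finset]; simp

omit [DecidableEq E] in
theorem twist_add (φ ψ : V → ℤ) (v : V) :
    LabGraph.twist ends (φ + ψ) v = LabGraph.twist ends φ v + LabGraph.twist ends ψ v := by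
  simp only [LabGraph.twist, ← sum_add_distrib]
  refine sum_congr rfl fun e _ => ?_
  simp only [Pi.add_apply]
  split_ifs <;> ring

omit [DecidableEq E] in
theorem twist_neg (φ : V → ℤ) (v : V) : LabGraph.twist ends (-φ) v = -LabGraph.twist ends φ v := by
  simp only [LabGraph.twist, ← sum_neg_distrib]
  refine sum_congr rfl fun e _ => ?_
  simp only [Pi.neg_apply]
  split_ifs <;> ring

omit [DecidableEq E] in
theorem twist_const (c : ℤ) (v : V) : LabGraph.twist ends (fun _ => c) v = 0 := by
  simp [LabGraph.twist]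

omit [Fintype V] [DecidableEq E] in
theorem cast_cut (Y : Finset V) :
    (LabGraph.cut ends Y : ℤ) =
      ∑ e : E, ((if (ends e).1 ∈ Y then (1 : ℤ) else 0) - (if (ends e).2 ∈ Y then 1 else 0)) ^ 2 := by
  rw [LabGraph.cut, natCast_card_filter]
  refine sum_congr rfl fun e _ => ?_
  split_ifs <;> simp_all

omit [DecidableEq E] in
theorem sum_endCount : ∑ v : V, (LabGraph.endCount ends univ v : ℤ) = 2 * (Fintype.card E : ℤ) := by
  simp only [LabGraph.endCount, Nat.cast_sum, Nat.cast_add, Nat.cast_ite, Nat.cast_one, Nat.cast_zero]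
  rw [sum_comm, sum_congr rfl (fun e (_ : e ∈ univ) => show
    (∑ v : V, ((if (ends e).1 = v then (1 : ℤ) else 0) + if (ends e).2 = v then 1 else 0)) = 2 by
      rw [sum_add_distrib, sum_ite_eq, sum_ite_eq]; simp)]
  simp [mul_comm]

omit [DecidableEq E] in
theorem canDeg_univ (w : V → ℕ) : LabGraph.canDeg ends w univ = 2 * LabGraph.genus ends w - 2 := by
  rw [LabGraph.canDeg, LabGraph.genus, sum_add_distrib, sum_sub_distrib, sum_endCount, ← mul_sum, sum_const,
    card_univ, nsmul_eq_mul]
  ring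

/-- A connected graph: equal values across every edge means constant. -/
theorem eq_of_edges (h : LabGraph.Connected ends) {α : Type*} (φ : V → α)
    (he : ∀ e, φ (ends e).1 = φ (ends e).2) (v w : V) : φ v = φ w := by
  induction h.2 v w with
  | refl => rfl
  | tail _ hab ih =>
    obtain ⟨e, h1 | h1⟩ := hab
    · rw [ih]; simpa [h1] using he e
    · rw [ih]; simpa [h1] using (he e).symm

omit [DecidableEq E] in
theorem mdeg_eq_zero_iff (h : LabGraph.Connected ends) (l : E → ℕ) (hl : ∀ e, 0 < l e) (φ : V → ℤ)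
    (hφ : LabGraph.IsCartier ends l φ) : (∀ v, LabGraph.mdeg ends l φ v = 0) ↔ ∀ v w, φ v = φ w := by
  classical
  refine ⟨fun h0 => eq_of_edges ends h φ fun e => ?_, fun hc v => ?_⟩
  · have h1 := sum_mul_mdeg ends l φ φ
    rw [sum_eq_zero (fun v _ => by rw [h0, mul_zero])] at h1
    choose c hc using hφ
    have h2 : ∀ e ∈ (univ : Finset E), (l e : ℤ) * c e ^ 2 = 0 := by
      refine (sum_eq_zero_iff_of_nonneg fun e _ => mul_nonneg (Int.natCast_nonneg _) (sq_nonneg _)).1 ?_
      rw [← neg_eq_zero, ← sum_neg_distrib, h1]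
      refine sum_congr rfl fun e _ => ?_
      have hne : (l e : ℤ) ≠ 0 := by exact_mod_cast (hl e).ne'
      rw [hc e, Int.mul_ediv_cancel_left _ hne,
        show φ (ends e).2 - φ (ends e).1 = (l e : ℤ) * (-c e) by rw [mul_neg, ← hc e]; ring,
        Int.mul_ediv_cancel_left _ hne, show φ (ends e).1 = φ (ends e).2 + (l e : ℤ) * c e by rw [← hc e]; ring]
      ring
    have h3 := h2 e (mem_univ e)
    have hne : (l e : ℤ) ≠ 0 := by exact_mod_cast (hl e).ne'
    rw [mul_eq_zero, or_iff_right hne, sq_eq_zero_iff] at h3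
    have := hc e
    rw [h3, mul_zero, sub_eq_zero] at this
    exact this
  · refine sum_eq_zero fun e _ => ?_
    rw [hc (ends e).1 (ends e).2]; simp

end Groth.Agent.LabG
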