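import Groth.Agent.LabG.Cycle

/-!
# The blow-up graph
-/

set_option autoImplicit false

universe u

open Finset

namespace Groth.Agent.LabG

variable {V E : Type u} [Fintype V] [Fintype E] [DecidableEq V] [DecidableEq E] (ends : E → V × V) (l : E → ℕ)

/-- The `k`-th increment along the path of `e`. -/
def incr (ψ : LabGraph.BlVert V E l → ℤ) (e : E) (k : ℕ) : ℤ :=
  ψ (LabGraph.pathVert ends l e (k + 1)) - ψ (LabGraph.pathVert ends l e k)

theorem mdeg_bl (ψ : LabGraph.BlVert V E l → ℤ) (w : LabGraph.BlVert V E l) :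
    LabGraph.mdeg (LabGraph.blEnds ends l) (fun _ => 1) ψ w =
      ∑ e : E, ∑ k ∈ range (l e), ((if LabGraph.pathVert ends l e k = w then incr ends l ψ e k else 0) +
        (if LabGraph.pathVert ends l e (k + 1) = w then -incr ends l ψ e k else 0)) := by
  rw [LabGraph.mdeg, Fintype.sum_sigma]
  refine sum_congr rfl fun e _ => ?_
  rw [← Fin.sum_univ_eq_sum_range]
  refine sum_congr rfl fun k _ => ?_
  simp only [LabGraph.blEnds, incr, Nat.cast_one, Int.ediv_one, neg_sub]

omit [Fintype V] [Fintype E] [DecidableEq V] [DecidableEq E] in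
theorem pathVert_eq_inr {e e' : E} {k : ℕ} {i : Fin (l e - 1)} :
    LabGraph.pathVert ends l e' k = Sum.inr ⟨e, i⟩ ↔ e' = e ∧ k = i.1 + 1 := by
  unfold LabGraph.pathVert
  split_ifs with h0 h
  · simp [h0]
  · constructor
    · intro heq
      simp only [Sum.inr.injEq, Sigma.mk.injEq] at heq
      obtain ⟨rfl, h2⟩ := heq
      have := congrArg Fin.val (eq_of_heq h2)
      simp only at this
      exact ⟨rfl, by omega⟩
    · rintro ⟨rfl, rfl⟩
      congr
  · simp only [reduceCtorEq, false_iff, not_and]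
    rintro rfl
    have := i.2
    omega

theorem mdeg_inner (ψ : LabGraph.BlVert V E l → ℤ) (e : E) (i : Fin (l e - 1)) :
    LabGraph.mdeg (LabGraph.blEnds ends l) (fun _ => 1) ψ (Sum.inr ⟨e, i⟩) =
      incr ends l ψ e (i.1 + 1) - incr ends l ψ e i.1 := by
  have hi := i.2
  rw [mdeg_bl, sum_eq_single e]
  · rw [sum_add_distrib, sum_eq_single (i.1 + 1), sum_eq_single i.1]
    · rw [if_pos ((pathVert_eq_inr ends l).2 ⟨rfl, rfl⟩), if_pos ((pathVert_eq_inr ends l).2 ⟨rfl, rfl⟩)]
      ring
    · intro k _ hk; rw [if_neg]; intro h; exact hk (by have := ((pathVert_eq_inr ends l).1 h).2; omega)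
    · intro h; exact absurd (mem_range.2 (by omega)) h
    · intro k _ hk; rw [if_neg]; intro h; exact hk ((pathVert_eq_inr ends l).1 h).2
    · intro h; exact absurd (mem_range.2 (by omega)) h
  · intro e' _ he
    refine sum_eq_zero fun k _ => ?_
    rw [if_neg, if_neg, add_zero]
    · exact fun h => he ((pathVert_eq_inr ends l).1 h).1
    · exact fun h => he ((pathVert_eq_inr ends l).1 h).1
  · simp

omit [Fintype V] [Fintype E] [DecidableEq V] [DecidableEq E] in
theorem pathVert_zero (e : E) : LabGraph.pathVert ends l e 0 = Sum.inl (ends e).1 := by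
  simp [LabGraph.pathVert]

omit [Fintype V] [Fintype E] [DecidableEq V] [DecidableEq E] in
theorem pathVert_top (hl : ∀ e, 0 < l e) (e : E) : LabGraph.pathVert ends l e (l e) = Sum.inl (ends e).2 := by
  simp [LabGraph.pathVert, (hl e).ne']

omit [Fintype V] [Fintype E] [DecidableEq V] [DecidableEq E] in
theorem pathVert_mid {e : E} {k : ℕ} (h0 : k ≠ 0) (h : k < l e) (v : V) :
    LabGraph.pathVert ends l e k ≠ Sum.inl v := by
  simp [LabGraph.pathVert, h0, h]

omit [Fintype V] [Fintype E] [DecidableEq V] [DecidableEq E] in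
theorem sum_incr (hl : ∀ e, 0 < l e) (ψ : LabGraph.BlVert V E l → ℤ) (e : E) :
    ∑ k ∈ range (l e), incr ends l ψ e k = ψ (Sum.inl (ends e).2) - ψ (Sum.inl (ends e).1) := by
  rw [show (fun k => incr ends l ψ e k) = fun k => (fun j => ψ (LabGraph.pathVert ends l e j)) (k + 1) -
      (fun j => ψ (LabGraph.pathVert ends l e j)) k from rfl,
    sum_range_sub (fun j => ψ (LabGraph.pathVert ends l e j)), pathVert_top ends l hl, pathVert_zero]

theorem eps_injective (hl : ∀ e, 0 < l e) (α : V → ℤ) (ψ : LabGraph.BlVert V E l → ℤ)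
    (hψ : ∀ w, LabGraph.mdeg (LabGraph.blEnds ends l) (fun _ => 1) ψ w = Sum.elim α (fun _ => (0 : ℤ)) w) :
    ∃ φ : V → ℤ, LabGraph.IsCartier ends l φ ∧ ∀ v, LabGraph.mdeg ends l φ v = α v := by
  set c : E → ℤ := fun e => incr ends l ψ e 0
  have hconst : ∀ e k, k < l e → incr ends l ψ e k = c e := by
    intro e k
    induction k with
    | zero => exact fun _ => rfl
    | succ k ih =>
      intro hk
      have h := hψ (Sum.inr ⟨e, ⟨k, by omega⟩⟩)
      rw [mdeg_inner, Sum.elim_inr, sub_eq_zero] at h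
      exact h.trans (ih (by omega))
  set φ : V → ℤ := fun v => ψ (Sum.inl v)
  have hδ : ∀ e, φ (ends e).2 - φ (ends e).1 = (l e : ℤ) * c e := fun e => by
    rw [← sum_incr ends l hl ψ e, sum_congr rfl fun k hk => hconst e k (mem_range.1 hk), sum_const, card_range,
      nsmul_eq_mul]
  refine ⟨φ, fun e => ⟨-c e, by rw [mul_neg, ← hδ]; ring⟩, fun v => ?_⟩
  rw [show α v = Sum.elim α (fun _ => (0 : ℤ)) (Sum.inl v) from rfl, ← hψ, mdeg_bl, LabGraph.mdeg]
  refine sum_congr rfl fun e _ => ?_
  have hne : (l e : ℤ) ≠ 0 := by exact_mod_cast (hl e).ne'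
  have hle := hl e
  rw [hδ, show φ (ends e).1 - φ (ends e).2 = (l e : ℤ) * (-c e) by rw [mul_neg, ← hδ]; ring,
    Int.mul_ediv_cancel_left _ hne, Int.mul_ediv_cancel_left _ hne, sum_add_distrib,
    sum_eq_single 0, sum_eq_single (l e - 1)]
  · rw [show l e - 1 + 1 = l e by omega, pathVert_zero, pathVert_top ends l hl, hconst e 0 hle,
      hconst e (l e - 1) (by omega)]
    simp
  · intro k hk hne'
    rw [mem_range] at hk
    rw [if_neg (pathVert_mid ends l (by omega) (by omega) v)]
  · intro h; exact absurd (mem_range.2 (by omega)) h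
  · intro k hk hne'
    rw [mem_range] at hk
    rw [if_neg (pathVert_mid ends l hne' hk v)]
  · intro h; exact absurd (mem_range.2 hle) h

theorem eps_surjective_iff (hl : ∀ e, 0 < l e) (hconn : LabGraph.Connected ends) :
    (∀ β : LabGraph.BlVert V E l → ℤ, ∃ (ψ : LabGraph.BlVert V E l → ℤ) (α : V → ℤ),
      ∀ w : LabGraph.BlVert V E l,
        LabGraph.mdeg (LabGraph.blEnds ends l) (fun _ => 1) ψ w + β w = Sum.elim α (fun _ => (0 : ℤ)) w) ↔
      LabGraph.IsCircuitCoprime ends l := by
  rw [coprime_iff ends l hl]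
  constructor
  · intro h x
    obtain ⟨ψ, α, hψ⟩ := h (Sum.elim 0 fun p => if p.2.1 = 0 then x p.1 else 0)
    have hconst : ∀ e k, k < l e → incr ends l ψ e k =
        incr ends l ψ e 0 - if k = 0 then 0 else x e := by
      intro e k
      induction k with
      | zero => intro _; simp
      | succ k ih =>
        intro hk
        have h1 := hψ (Sum.inr ⟨e, ⟨k, by omega⟩⟩)
        rw [mdeg_inner, Sum.elim_inr, Sum.elim_inr] at h1
        have h2 := ih (by omega)
        simp only at h1
        rw [if_neg (Nat.succ_ne_zero k)]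
        split_ifs at h1 h2 <;> linarith
    refine ⟨fun e => x e - incr ends l ψ e 0, fun γ hγ => ?_⟩
    have hδ : ∀ e, x e - (l e : ℤ) * (x e - incr ends l ψ e 0) =
        ψ (Sum.inl (ends e).2) - ψ (Sum.inl (ends e).1) := fun e => by
      rw [← sum_incr ends l hl ψ e, sum_congr rfl fun k hk => hconst e k (mem_range.1 hk), sum_sub_distrib,
        sum_const, card_range, nsmul_eq_mul]
      obtain ⟨m, hm⟩ := Nat.exists_eq_add_of_lt (hl e)
      rw [hm, sum_range_succ']
      simp
      ring
    calc ∑ e, γ e * (x e - (l e : ℤ) * (x e - incr ends l ψ e 0))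
        = ∑ e, γ e * (ψ (Sum.inl (ends e).2) - ψ (Sum.inl (ends e).1)) := sum_congr rfl fun e _ => by rw [hδ]
      _ = ∑ v, ψ (Sum.inl v) * bd ends γ v := by
          simp only [bd_apply, mul_sum]
          rw [sum_comm]
          refine sum_congr rfl fun e _ => ?_
          simp [inc, mul_sub, mul_ite, sum_sub_distrib]
          ring
      _ = 0 := by simp [hγ]
  · intro h β
    let b : E → ℕ → ℤ := fun e i => if hi : i < l e - 1 then β (Sum.inr ⟨e, ⟨i, hi⟩⟩) else 0
    let s : E → ℕ → ℤ := fun e k => ∑ i ∈ range k, b e i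
    let S : E → ℤ := fun e => ∑ k ∈ range (l e), s e k
    obtain ⟨y, hy⟩ := h S
    obtain ⟨g, -, hg⟩ := exists_potential ends hconn (fun e => S e - (l e : ℤ) * y e) hy hconn.1.some
    let P : E → ℕ → ℤ := fun e j => -g (ends e).1 + ∑ k ∈ range j, (y e - s e k)
    let ψ : LabGraph.BlVert V E l → ℤ := Sum.elim (fun v => -g v) fun p => P p.1 (p.2.1 + 1)
    have hP : ∀ e j, j ≤ l e → ψ (LabGraph.pathVert ends l e j) = P e j := by
      intro e j hj
      rcases eq_or_ne j 0 with rfl | h0
      · simp [pathVert_zero, ψ, P]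
      rcases hj.lt_or_eq with hlt | rfl
      · simp only [LabGraph.pathVert, dif_neg h0, dif_pos hlt, ψ, Sum.elim_inr]
        rw [show j - 1 + 1 = j by omega]
      · simp only [pathVert_top ends l hl, ψ, Sum.elim_inl, P, sum_sub_distrib, sum_const, card_range, nsmul_eq_mul]
        have := hg e
        simp only [S] at this
        linarith
    have hincr : ∀ e k, k < l e → incr ends l ψ e k = y e - s e k := fun e k hk => by
      rw [incr, hP e _ hk, hP e _ hk.le]
      simp only [P, sum_range_succ]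
      ring
    refine ⟨ψ, fun v => LabGraph.mdeg (LabGraph.blEnds ends l) (fun _ => 1) ψ (Sum.inl v) + β (Sum.inl v), ?_⟩
    rintro (v | ⟨e, i⟩)
    · simp
    · have hi := i.2
      rw [mdeg_inner, hincr e _ (by omega), hincr e _ (by omega), Sum.elim_inr]
      simp only [s, sum_range_succ, b, dif_pos hi, Fin.eta]
      ring

end Groth.Agent.LabG
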