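import Groth.Agent.LabG.Basic
import Mathlib

/-!
# Circuits, integer cycles and potentials
-/

set_option autoImplicit false

universe u

open Finset

namespace Groth.Agent.LabG

variable {V E : Type u} [Fintype V] [Fintype E] [DecidableEq V] [DecidableEq E] (ends : E → V × V)

/-- The incidence number. -/
def inc (e : E) (v : V) : ℤ := (if (ends e).2 = v then 1 else 0) - (if (ends e).1 = v then 1 else 0)

/-- The number of ends of one edge at a vertex. -/
def nEnds (e : E) (v : V) : ℕ := (if (ends e).1 = v then 1 else 0) + (if (ends e).2 = v then 1 else 0)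

omit [Fintype V] [Fintype E] [DecidableEq E] in
theorem endCount_eq (C : Finset E) (v : V) : LabGraph.endCount ends C v = ∑ e ∈ C, nEnds ends e v := rfl

/-- The boundary as a linear map. -/
def bd : (E → ℤ) →ₗ[ℤ] (V → ℤ) where
  toFun γ v := ∑ e, γ e * inc ends e v
  map_add' γ γ' := funext fun v => by simp only [Pi.add_apply, add_mul, sum_add_distrib]
  map_smul' c γ := funext fun v => by simp only [Pi.smul_apply, smul_eq_mul, mul_sum, RingHom.id_apply, mul_assoc]

omit [Fintype V] [DecidableEq E] in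
theorem bd_apply (γ : E → ℤ) (v : V) : bd ends γ v = ∑ e, γ e * inc ends e v := rfl

omit [Fintype V] [DecidableEq E] in
theorem bd_eq_boundary (γ : E → ℤ) (v : V) : bd ends γ v = LabGraph.boundary ends γ v := by
  rw [bd_apply, LabGraph.boundary]
  exact sum_congr rfl fun e _ => by simp [inc, mul_sub]

omit [Fintype V] [DecidableEq E] in
theorem bd_eq_sum_of_supp {γ : E → ℤ} {T : Finset E} (h : ∀ e, e ∉ T → γ e = 0) (v : V) :
    bd ends γ v = ∑ e ∈ T, γ e * inc ends e v :=
  (sum_subset (subset_univ T) fun e _ he => by rw [h e he, zero_mul]).symm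

omit [DecidableEq E] in
theorem sum_bd (γ : E → ℤ) : ∑ v, bd ends γ v = 0 := by
  simp only [bd_apply, inc, mul_sub]
  rw [sum_comm]
  refine sum_eq_zero fun e _ => ?_
  rw [sum_sub_distrib, ← mul_sum, ← mul_sum, sum_ite_eq, sum_ite_eq]
  simp

omit [DecidableEq E] in
theorem sum_nEnds (e : E) : ∑ v : V, nEnds ends e v = 2 := by
  simp only [nEnds, sum_add_distrib, sum_ite_eq, mem_univ, if_true]

omit [Fintype V] [Fintype E] [DecidableEq E] in
theorem inc_of_nEnds_zero {e : E} {v : V} (h : nEnds ends e v = 0) : inc ends e v = 0 := by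
  unfold nEnds at h; unfold inc; split_ifs at h ⊢ <;> simp_all

omit [Fintype V] [Fintype E] [DecidableEq E] in
theorem inc_parity (e : E) (v : V) : (inc ends e v : ZMod 2) = (nEnds ends e v : ZMod 2) := by
  unfold nEnds inc; split_ifs <;> simp <;> decide

omit [Fintype V] [Fintype E] [DecidableEq E] in
theorem single_end {X : Finset E} {v : V} (h : ∑ e ∈ X, nEnds ends e v = 1) :
    ∃ e ∈ X, (inc ends e v = 1 ∨ inc ends e v = -1) ∧
      ∀ γ : E → ℤ, ∑ e' ∈ X, γ e' * inc ends e' v = γ e * inc ends e v := by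
  classical
  obtain ⟨e, he, hne⟩ : ∃ e ∈ X, nEnds ends e v ≠ 0 := exists_ne_zero_of_sum_ne_zero (by omega)
  have hsplit := add_sum_erase X (fun e => nEnds ends e v) he
  have h1 : nEnds ends e v = 1 := by omega
  refine ⟨e, he, ?_, fun γ => sum_eq_single e (fun e' he' hne' => ?_) (fun h => absurd he h)⟩
  · unfold nEnds at h1; unfold inc
    split_ifs at h1 ⊢ <;> simp_all
  · have : nEnds ends e' v = 0 := by
      have := single_le_sum (f := fun e => nEnds ends e v) (fun _ _ => Nat.zero_le _) (mem_erase.2 ⟨hne', he'⟩)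
      omega
    rw [inc_of_nEnds_zero ends this, mul_zero]

omit [Fintype V] in
theorem exists_circuit_of_even : ∀ T : Finset E, T.Nonempty → (∀ v, Even (LabGraph.endCount ends T v)) →
    ∃ C, C ⊆ T ∧ LabGraph.IsCircuit ends C := by
  intro T
  induction T using Finset.strongInduction with
  | H T ih =>
    intro hne hev
    by_cases h : ∀ C' : Finset E, C' ⊂ T → C'.Nonempty → ∃ v, ¬ Even (LabGraph.endCount ends C' v)
    · exact ⟨T, Subset.rfl, hne, hev, h⟩
    · push Not at h
      obtain ⟨C', hss, hne', hev'⟩ := h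
      obtain ⟨C, hC, hC'⟩ := ih C' hss hne' hev'
      exact ⟨C, hC.trans hss.1, hC'⟩

omit [Fintype V] [DecidableEq E] in
theorem exists_even_support (γ : E → ℤ) (hγ : bd ends γ = 0) (h0 : γ ≠ 0) :
    ∃ T : Finset E, T.Nonempty ∧ (∀ e ∈ T, γ e ≠ 0) ∧ ∀ v, Even (LabGraph.endCount ends T v) := by
  classical
  suffices H : ∀ (n : ℕ) (γ : E → ℤ), (∑ e, (γ e).natAbs) = n → bd ends γ = 0 → γ ≠ 0 →
      ∃ T : Finset E, T.Nonempty ∧ (∀ e ∈ T, γ e ≠ 0) ∧ ∀ v, Even (LabGraph.endCount ends T v) from H _ γ rfl hγ h0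
  intro n
  induction n using Nat.strong_induction_on with
  | h n ih =>
    intro γ hn hγ h0
    by_cases hodd : ∃ e, Odd (γ e)
    · obtain ⟨e₀, he₀⟩ := hodd
      refine ⟨univ.filter fun e => Odd (γ e), ⟨e₀, by simp [he₀]⟩, fun e he => ?_, fun v => ?_⟩
      · simp only [mem_filter] at he; intro h; rw [h] at he; simp at he
      · rw [← ZMod.natCast_eq_zero_iff_even, endCount_eq, Nat.cast_sum, sum_filter]
        have h := congrArg (fun z : ℤ => (z : ZMod 2)) (congrFun hγ v)
        simp only [bd_apply, Int.cast_sum, Int.cast_mul, inc_parity, Pi.zero_apply, Int.cast_zero] at h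
        refine (sum_congr rfl fun e _ => ?_).trans h
        split_ifs with ho
        · rw [ZMod.intCast_eq_one_iff_odd.2 ho, one_mul]
        · rw [ZMod.intCast_eq_zero_iff_even.2 (Int.not_odd_iff_even.1 ho), zero_mul]
    · push Not at hodd
      choose γ' hγ' using fun e => even_iff_two_dvd.1 (Int.not_odd_iff_even.1 (hodd e))
      have heq : γ = (2 : ℤ) • γ' := funext fun e => by rw [hγ']; rfl
      have hne' : γ' ≠ 0 := fun h => h0 (by rw [heq, h, smul_zero])
      have hsum : n = 2 * ∑ e, (γ' e).natAbs := by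
        rw [← hn, mul_sum]; exact sum_congr rfl fun e _ => by rw [hγ', Int.natAbs_mul]; rfl
      obtain ⟨e₁, he₁⟩ := Function.ne_iff.1 hne'
      have hpos : 0 < ∑ e, (γ' e).natAbs :=
        lt_of_lt_of_le (Int.natAbs_pos.2 he₁) (single_le_sum (f := fun e => (γ' e).natAbs) (fun e _ => Nat.zero_le _) (mem_univ e₁))
      obtain ⟨T, hT, hT', hev⟩ := ih _ (by omega) γ' rfl (by
        rw [heq, map_smul] at hγ; exact (smul_eq_zero.1 hγ).resolve_left (by norm_num)) hne'
      exact ⟨T, hT, fun e he => by rw [hγ']; exact mul_ne_zero two_ne_zero (hT' e he), hev⟩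

omit [Fintype V] in
theorem exists_circuit_of_cycle (γ : E → ℤ) (hγ : bd ends γ = 0) (h0 : γ ≠ 0) :
    ∃ C, LabGraph.IsCircuit ends C ∧ ∀ e ∈ C, γ e ≠ 0 := by
  obtain ⟨T, hne, hT, hev⟩ := exists_even_support ends γ hγ h0
  obtain ⟨C, hC, hC'⟩ := exists_circuit_of_even ends T hne hev
  exact ⟨C, hC', fun e he => hT e (hC he)⟩

theorem exists_cycle_of_card (T : Finset E) (W : Finset V) (hTW : ∀ e ∈ T, ∀ v, nEnds ends e v ≠ 0 → v ∈ W)
    (hW : W.Nonempty) (hcard : W.card ≤ T.card) :
    ∃ γ : E → ℤ, bd ends γ = 0 ∧ γ ≠ 0 ∧ ∀ e, e ∉ T → γ e = 0 := by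
  obtain ⟨v₀, hv₀⟩ := hW
  let ext : (T → ℤ) →ₗ[ℤ] (E → ℤ) :=
    { toFun := fun c e => if h : e ∈ T then c ⟨e, h⟩ else 0
      map_add' := fun c c' => funext fun e => by by_cases h : e ∈ T <;> simp [h]
      map_smul' := fun a c => funext fun e => by by_cases h : e ∈ T <;> simp [h] }
  let f : (T → ℤ) →ₗ[ℤ] (↥(W.erase v₀) → ℤ) := LinearMap.funLeft ℤ ℤ Subtype.val ∘ₗ bd ends ∘ₗ ext
  have hninj : ¬ Function.Injective f := fun hf => by
    have := LinearMap.finrank_le_finrank_of_injective hf
    simp only [Module.finrank_fintype_fun_eq_card, Fintype.card_coe, card_erase_of_mem hv₀] at this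
    have : 1 ≤ W.card := card_pos.2 ⟨v₀, hv₀⟩
    omega
  rw [injective_iff_map_eq_zero] at hninj
  push Not at hninj
  obtain ⟨c, hc, hc0⟩ := hninj
  have hsupp : ∀ e, e ∉ T → ext c e = 0 := fun e he => by simp [ext, he]
  have hzero : ∀ v, v ≠ v₀ → bd ends (ext c) v = 0 := fun v hv => by
    by_cases hvW : v ∈ W
    · exact congrFun hc ⟨v, mem_erase.2 ⟨hv, hvW⟩⟩
    · rw [bd_eq_sum_of_supp ends hsupp]
      refine sum_eq_zero fun e he => ?_
      rw [inc_of_nEnds_zero ends (by_contra fun h => hvW (hTW e he v h)), mul_zero]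
  refine ⟨ext c, funext fun v => ?_, fun h => hc0 (funext fun e => ?_), hsupp⟩
  · rcases eq_or_ne v v₀ with rfl | hv
    · have := sum_bd ends (ext c)
      rwa [sum_eq_single v (fun w _ hw => hzero w hw) (fun h => absurd (mem_univ v) h)] at this
    · exact hzero v hv
  · have := congrFun h e
    simpa [ext] using this

/-- The vertices met by a set of edges. -/
def touched (T : Finset E) : Finset V := univ.filter fun v => LabGraph.endCount ends T v ≠ 0

omit [DecidableEq E] in
theorem sum_endCount_touched (T : Finset E) :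
    ∑ v ∈ touched ends T, LabGraph.endCount ends T v = 2 * T.card := by
  rw [touched, sum_filter_ne_zero]
  simp only [endCount_eq]
  rw [sum_comm, sum_congr rfl fun e _ => sum_nEnds ends e, sum_const, smul_eq_mul, mul_comm]

theorem mem_touched {T : Finset E} {e : E} (he : e ∈ T) {v : V} (h : nEnds ends e v ≠ 0) : v ∈ touched ends T := by
  simp only [touched, mem_filter, mem_univ, true_and, endCount_eq]
  exact fun h0 => h (sum_eq_zero_iff.1 h0 e he)

theorem touched_nonempty {T : Finset E} (h : T.Nonempty) : (touched ends T).Nonempty := by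
  obtain ⟨e, he⟩ := h
  exact ⟨(ends e).1, mem_touched ends he (by simp [nEnds])⟩

/-- A nonempty edge set without pendant ends carries a circuit. -/
theorem exists_circuit_of_no_pendant (T : Finset E) (hne : T.Nonempty) (h : ∀ v, LabGraph.endCount ends T v ≠ 1) :
    ∃ C, LabGraph.IsCircuit ends C ∧ C ⊆ T := by
  have hcard : (touched ends T).card ≤ T.card := by
    have h1 := sum_endCount_touched ends T
    have h2 : ∀ v ∈ touched ends T, 2 ≤ LabGraph.endCount ends T v := fun v hv => by
      simp only [touched, mem_filter] at hv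
      have := h v; omega
    have h3 := le_of_le_of_eq (card_nsmul_le_sum _ _ _ h2) h1
    simp only [smul_eq_mul] at h3
    omega
  obtain ⟨γ, hγ, h0, hsupp⟩ := exists_cycle_of_card ends T (touched ends T)
    (fun e he v hv => mem_touched ends he hv) (touched_nonempty ends hne) hcard
  obtain ⟨C, hC, hC'⟩ := exists_circuit_of_cycle ends γ hγ h0
  exact ⟨C, hC, fun e he => by_contra fun hn => hC' e he (hsupp e hn)⟩

theorem endCount_circuit {C : Finset E} (hC : LabGraph.IsCircuit ends C) (v : V) :
    LabGraph.endCount ends C v = 0 ∨ LabGraph.endCount ends C v = 2 := by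
  have hle : C.card ≤ (touched ends C).card := by
    by_contra hlt
    push Not at hlt
    obtain ⟨e, he⟩ := hC.1
    have hW := touched_nonempty ends hC.1
    have hc : (touched ends C).card ≤ (C.erase e).card := by rw [card_erase_of_mem he]; omega
    obtain ⟨γ, hγ, h0, hsupp⟩ := exists_cycle_of_card ends (C.erase e) (touched ends C)
      (fun e' he' v hv => mem_touched ends (mem_of_mem_erase he') hv) hW hc
    obtain ⟨T, hne, hT, hev⟩ := exists_even_support ends γ hγ h0
    have hsub : T ⊆ C.erase e := fun x hx => by_contra fun hn => hT x hx (hsupp x hn)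
    obtain ⟨w, hw⟩ := hC.2.2 T (lt_of_le_of_lt (le_iff_subset.2 hsub) (erase_ssubset he)) hne
    exact hw (hev w)
  by_contra hcon
  push Not at hcon
  obtain ⟨j, hj⟩ := hC.2.1 v
  have h2 : ∀ w ∈ touched ends C, 2 ≤ LabGraph.endCount ends C w := fun w hw => by
    simp only [touched, mem_filter] at hw
    obtain ⟨i, hi⟩ := hC.2.1 w
    omega
  have hv : v ∈ touched ends C := by simp [touched, hcon.1]
  have h3 : ∑ _w ∈ touched ends C, 2 < ∑ w ∈ touched ends C, LabGraph.endCount ends C w :=
    sum_lt_sum h2 ⟨v, hv, by omega⟩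
  rw [sum_endCount_touched, sum_const, smul_eq_mul] at h3
  omega

/-- A circuit carries a cycle with all entries `±1`. -/
theorem exists_circuit_cycle {C : Finset E} (hC : LabGraph.IsCircuit ends C) :
    ∃ σ : E → ℤ, bd ends σ = 0 ∧ (∀ e ∈ C, σ e = 1 ∨ σ e = -1) ∧ ∀ e, e ∉ C → σ e = 0 := by
  obtain ⟨γ, hγ, h0, hsupp⟩ := exists_cycle_of_card ends C (touched ends C)
    (fun e he v hv => mem_touched ends he hv) (touched_nonempty ends hC.1) (by
      have h1 := sum_endCount_touched ends C
      have h2 : ∀ v ∈ touched ends C, 2 ≤ LabGraph.endCount ends C v := fun v hv => by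
        simp only [touched, mem_filter] at hv
        rcases endCount_circuit ends hC v with h | h <;> omega
      have h3 := le_of_le_of_eq (card_nsmul_le_sum _ _ _ h2) h1
      simp only [smul_eq_mul] at h3
      omega)
  obtain ⟨e₀, he₀, hmax⟩ := C.exists_max_image (fun e => (γ e).natAbs) hC.1
  set m := (γ e₀).natAbs with hm
  set S := C.filter fun e => (γ e).natAbs = m with hS
  have hev : ∀ v, Even (LabGraph.endCount ends S v) := fun v => by
    have hsum : ∑ e ∈ S, nEnds ends e v + ∑ e ∈ C \ S, nEnds ends e v = LabGraph.endCount ends C v := by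
      rw [endCount_eq, add_comm, sum_sdiff (filter_subset _ _)]
    rw [endCount_eq]
    by_contra hodd
    obtain ⟨k, hk⟩ := Nat.not_even_iff_odd.1 hodd
    rcases endCount_circuit ends hC v with h | h
    · omega
    obtain ⟨e, he, hi, hes⟩ := single_end ends (X := S) (v := v) (by omega)
    obtain ⟨e', he', hi', hes'⟩ := single_end ends (X := C \ S) (v := v) (by omega)
    have hb := congrFun hγ v
    rw [bd_eq_sum_of_supp ends hsupp, ← sum_sdiff (filter_subset (fun e => (γ e).natAbs = m) C), hes', hes,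
      Pi.zero_apply] at hb
    simp only [S, mem_filter] at he
    simp only [S, mem_sdiff, mem_filter, not_and] at he'
    have hne := he'.2 he'.1
    rcases hi with hi | hi <;> rcases hi' with hi' | hi' <;> rw [hi, hi'] at hb <;> omega
  have hSC : S = C := by
    by_contra hne
    obtain ⟨v, hv⟩ := hC.2.2 S (lt_of_le_of_ne (le_iff_subset.2 (filter_subset _ _)) hne)
      ⟨e₀, by simp [S, he₀, hm]⟩
    exact hv (hev v)
  have habs : ∀ e ∈ C, (γ e).natAbs = m := fun e he => (mem_filter.1 (hSC.symm ▸ he : e ∈ S)).2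
  have hmne : m ≠ 0 := fun h => h0 (funext fun e => by
    by_cases he : e ∈ C
    · exact Int.natAbs_eq_zero.1 ((habs e he).trans h)
    · exact hsupp e he)
  set σ : E → ℤ := fun e => if e ∈ C then (γ e).sign else 0
  have hγσ : γ = (m : ℤ) • σ := funext fun e => by
    by_cases he : e ∈ C
    · simp only [σ, Pi.smul_apply, if_pos he, smul_eq_mul]
      rw [← habs e he, mul_comm, Int.sign_mul_natAbs]
    · simp [σ, if_neg he, hsupp e he]
  refine ⟨σ, ?_, fun e he => ?_, fun e he => by simp [σ, if_neg he]⟩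
  · rw [hγσ, map_smul] at hγ
    exact (smul_eq_zero.1 hγ).resolve_left (by exact_mod_cast hmne)
  · simp only [σ, if_pos he]
    have hne : γ e ≠ 0 := fun h => hmne (by rw [← habs e he, h]; rfl)
    rcases lt_or_gt_of_ne hne with h | h
    · exact Or.inr (Int.sign_eq_neg_one_of_neg h)
    · exact Or.inl (Int.sign_eq_one_of_pos h)

/-- Cycles are combinations of circuit cycles. -/
theorem cycle_ortho {x : E → ℤ}
    (h : ∀ C, LabGraph.IsCircuit ends C → ∀ σ : E → ℤ, bd ends σ = 0 → (∀ e, e ∉ C → σ e = 0) →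
      ∑ e, σ e * x e = 0) (γ : E → ℤ) (hγ : bd ends γ = 0) : ∑ e, γ e * x e = 0 := by
  suffices H : ∀ (n : ℕ) (γ : E → ℤ), (univ.filter fun e => γ e ≠ 0).card = n → bd ends γ = 0 →
      ∑ e, γ e * x e = 0 from H _ γ rfl hγ
  intro n
  induction n using Nat.strong_induction_on with
  | h n ih =>
    intro γ hn hγ
    by_cases h0 : γ = 0
    · simp [h0]
    obtain ⟨C, hC, hCne⟩ := exists_circuit_of_cycle ends γ hγ h0
    obtain ⟨σ, hσ, hσ1, hσ0⟩ := exists_circuit_cycle ends hC
    obtain ⟨e₀, he₀⟩ := hC.1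
    set γ' := γ - (γ e₀ * σ e₀) • σ with hγ'
    have hlt : (univ.filter fun e => γ' e ≠ 0).card < n := by
      rw [← hn]
      refine card_lt_card (lt_of_le_of_ne (le_iff_subset.2 fun e he => ?_) fun heq => ?_)
      · simp only [mem_filter, mem_univ, true_and] at he ⊢
        intro hz
        by_cases heC : e ∈ C
        · exact hCne e heC hz
        · exact he (by simp [γ', hz, hσ0 e heC])
      · have : e₀ ∈ univ.filter fun e => γ e ≠ 0 := by simp [hCne e₀ he₀]
        rw [← heq] at this
        simp only [mem_filter] at this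
        refine this.2 ?_
        rcases hσ1 e₀ he₀ with h1 | h1 <;> simp [γ', h1]
    have h2 := ih _ hlt γ' rfl (by rw [hγ', map_sub, map_smul, hγ, hσ, smul_zero, sub_zero])
    have h3 := h C hC σ hσ hσ0
    simp only [γ', Pi.sub_apply, Pi.smul_apply, smul_eq_mul, sub_mul, sum_sub_distrib, mul_assoc, ← mul_sum] at h2
    rw [h3] at h2
    simpa using h2

omit [DecidableEq E] in
/-- An edge vector orthogonal to all cycles is a coboundary. -/
theorem exists_potential (hconn : LabGraph.Connected ends) (x : E → ℤ)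
    (h : ∀ γ : E → ℤ, bd ends γ = 0 → ∑ e, γ e * x e = 0) (v₀ : V) :
    ∃ g : V → ℤ, g v₀ = 0 ∧ ∀ e, g (ends e).2 - g (ends e).1 = x e := by
  classical
  have hone : ∀ (e : E) (v : V), bd ends (Pi.single e 1) v = inc ends e v := fun e v => by
    rw [bd_apply, sum_eq_single e (fun e' _ hne => by simp [Pi.single_eq_of_ne hne]) (by simp)]
    simp
  have hchain : ∀ v, ∃ c : E → ℤ, ∀ u, bd ends c u = (if v = u then 1 else 0) - (if v₀ = u then 1 else 0) := by
    intro v
    induction hconn.2 v₀ v with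
    | refl => exact ⟨0, fun u => by simp [map_zero]⟩
    | @tail a b _ hab ih =>
      obtain ⟨c, hc⟩ := ih
      obtain ⟨e, he | he⟩ := hab
      · refine ⟨c + Pi.single e 1, fun u => ?_⟩
        rw [map_add, Pi.add_apply, hc, hone, inc, he]; ring
      · refine ⟨c - Pi.single e 1, fun u => ?_⟩
        rw [map_sub, Pi.sub_apply, hc, hone, inc, he]; ring
  choose c hc using hchain
  refine ⟨fun v => ∑ e, c v e * x e, h _ (funext fun u => by rw [hc]; simp), fun e => ?_⟩
  have := h (c (ends e).2 - c (ends e).1 - Pi.single e 1) (funext fun u => by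
    rw [map_sub, map_sub, Pi.sub_apply, Pi.sub_apply, hc, hc, hone, inc, Pi.zero_apply]; ring)
  simp only [Pi.sub_apply, sub_mul, sum_sub_distrib] at this
  rw [sum_eq_single e (f := fun e' => (Pi.single e (1 : ℤ) : E → ℤ) e' * x e')
    (fun e' _ hne => by simp [Pi.single_eq_of_ne hne]) (by simp)] at this
  simp only [Pi.single_eq_same, one_mul] at this
  linarith

/-- Saturation: in a circuit-coprime graph a labelled cycle divisible by `n` comes from a cycle divisible by `n`. -/
theorem dvd_of_dvd_label_mul {l : E → ℕ} (hcop : LabGraph.IsCircuitCoprime ends l) :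
    ∀ (n : ℕ), 0 < n → ∀ γ : E → ℤ, bd ends γ = 0 → (∀ e, (n : ℤ) ∣ l e * γ e) → ∀ e, (n : ℤ) ∣ γ e := by
  intro n
  induction n using Nat.strong_induction_on with
  | h n ih =>
    intro hn γ hγ hdvd
    rcases eq_or_ne n 1 with rfl | h1
    · exact fun e => ⟨γ e, by simp⟩
    set p := n.minFac
    have hp : p.Prime := Nat.minFac_prime h1
    obtain ⟨m, hm⟩ := n.minFac_dvd
    have hpn : ∀ e, (p : ℤ) ∣ l e * γ e := fun e =>
      (Int.natCast_dvd_natCast.2 n.minFac_dvd).trans (hdvd e)
    have hpp : Prime (p : ℤ) := Nat.prime_iff_prime_int.1 hp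
    have hall : ∀ e, (p : ℤ) ∣ γ e := by
      set T := univ.filter fun e => ¬ (p : ℤ) ∣ γ e with hT
      rcases T.eq_empty_or_nonempty with hempty | hne
      · exact fun e => by_contra fun h => by
          have : e ∈ T := by simp [T, h]
          rw [hempty] at this; simp at this
      exfalso
      obtain ⟨C, hC, hCT⟩ := exists_circuit_of_no_pendant ends T hne fun v hv => by
        obtain ⟨e, he, hi, hes⟩ := single_end ends (v := v) hv
        have hb := congrFun hγ v
        rw [bd_apply, ← sum_sdiff (subset_univ T), hes, Pi.zero_apply] at hb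
        simp only [T, mem_filter] at he
        refine he.2 ?_
        have hd : (p : ℤ) ∣ γ e * inc ends e v := by
          rw [eq_neg_of_add_eq_zero_right hb, dvd_neg]
          refine dvd_sum fun e' he' => dvd_mul_of_dvd_left ?_ _
          simpa [T] using he'
        rcases hi with hi | hi <;> simpa [hi] using hd
      have hdl : ∀ e ∈ C, p ∣ l e := fun e he => by
        have := hCT he
        simp only [T, mem_filter, mem_univ, true_and] at this
        exact Int.natCast_dvd_natCast.1 ((hpp.dvd_mul.1 (hpn e)).resolve_right this)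
      have := Finset.dvd_gcd hdl
      rw [hcop C hC] at this
      exact hp.ne_one (Nat.dvd_one.1 this)
    choose γ' hγ' using hall
    have hp0 : (p : ℤ) ≠ 0 := by exact_mod_cast hp.ne_zero
    have hγ'0 : bd ends γ' = 0 := by
      rw [show γ = (p : ℤ) • γ' from funext fun e => hγ' e, map_smul] at hγ
      exact (smul_eq_zero.1 hγ).resolve_left hp0
    have hm0 : 0 < m := Nat.pos_of_ne_zero fun h => by rw [h, mul_zero] at hm; omega
    have hlt : m < n := by rw [hm]; exact lt_mul_of_one_lt_left hm0 hp.one_lt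
    have hnm : (n : ℤ) = p * m := by exact_mod_cast hm
    intro e
    obtain ⟨q, hq⟩ := ih m hlt hm0 γ' hγ'0 (fun e => by
      have := hdvd e
      rw [hnm, hγ', mul_left_comm, mul_dvd_mul_iff_left hp0] at this
      exact this) e
    exact ⟨q, by rw [hγ', hq, hnm, mul_assoc]⟩

/-- Circuit-coprimality is the solvability of `x - l y ⊥ H₁`. -/
theorem coprime_iff (l : E → ℕ) (hl : ∀ e, 0 < l e) :
    LabGraph.IsCircuitCoprime ends l ↔
      ∀ x : E → ℤ, ∃ y : E → ℤ, ∀ γ : E → ℤ, bd ends γ = 0 → ∑ e, γ e * (x e - (l e : ℤ) * y e) = 0 := by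
  constructor
  · intro hcop x
    let H := LinearMap.ker (bd ends)
    let T : H →ₗ[ℤ] (E → ℤ) :=
      { toFun := fun γ e => (l e : ℤ) * (γ : E → ℤ) e
        map_add' := fun a c => funext fun e => by simp [mul_add]
        map_smul' := fun a c => funext fun e => by simp [mul_left_comm] }
    have hT : Function.Injective T := fun a c h => Subtype.ext (funext fun e =>
      mul_left_cancel₀ (show (l e : ℤ) ≠ 0 by exact_mod_cast (hl e).ne') (congrFun h e))
    let N := LinearMap.range T
    haveI : Module.IsTorsionFree ℤ ((E → ℤ) ⧸ N) := by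
      constructor
      intro r hr
      have hr0 : r ≠ 0 := hr.ne_zero
      intro a c h
      rw [← sub_eq_zero] at h ⊢
      rw [← smul_sub] at h
      obtain ⟨z, hz⟩ := Submodule.Quotient.mk_surjective N (a - c)
      rw [← hz, ← Submodule.Quotient.mk_smul, Submodule.Quotient.mk_eq_zero] at h
      obtain ⟨γ, hγ⟩ := h
      rw [← hz, Submodule.Quotient.mk_eq_zero]
      have hdiv : ∀ e, (r.natAbs : ℤ) ∣ (γ : E → ℤ) e :=
        dvd_of_dvd_label_mul ends hcop _ (Int.natAbs_pos.2 hr0) γ γ.2 fun e => by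
          rw [show (l e : ℤ) * (γ : E → ℤ) e = r * z e from congrFun hγ e, Int.natAbs_dvd]
          exact dvd_mul_right r _
      choose γ' hγ' using fun e => Int.natAbs_dvd.1 (hdiv e)
      have hγ'0 : γ' ∈ H := by
        have h2 : bd ends (γ : E → ℤ) = 0 := γ.2
        rw [show (γ : E → ℤ) = r • γ' from funext hγ', map_smul] at h2
        exact (smul_eq_zero.1 h2).resolve_left hr0
      refine ⟨⟨γ', hγ'0⟩, funext fun e => mul_left_cancel₀ hr0 ?_⟩
      calc r * ((l e : ℤ) * γ' e) = (l e : ℤ) * (γ : E → ℤ) e := by rw [hγ' e]; ring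
        _ = r * z e := congrFun hγ e
    haveI : Module.Free ℤ ((E → ℤ) ⧸ N) := Module.free_of_finite_type_torsion_free'
    obtain ⟨s, hs⟩ := Module.projective_lifting_property N.mkQ LinearMap.id N.mkQ_surjective
    let P : (E → ℤ) →ₗ[ℤ] H := (LinearEquiv.ofInjective T hT).symm.toLinearMap ∘ₗ
      LinearMap.codRestrict N (LinearMap.id - s ∘ₗ N.mkQ) fun z => by
        rw [← Submodule.Quotient.mk_eq_zero, ← Submodule.mkQ_apply, LinearMap.sub_apply, map_sub,
          LinearMap.comp_apply, ← LinearMap.comp_apply N.mkQ s, hs]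
        simp
    have hP : ∀ γ : H, P (T γ) = γ := fun γ => by
      simp only [P, LinearMap.comp_apply, LinearEquiv.coe_coe, LinearEquiv.symm_apply_eq]
      refine Subtype.ext ?_
      have : N.mkQ (T γ) = 0 := (Submodule.Quotient.mk_eq_zero N).2 ⟨γ, rfl⟩
      simp [this]
    let Φ : (E → ℤ) →ₗ[ℤ] ℤ :=
      { toFun := fun z => ∑ e, (P z : E → ℤ) e * x e
        map_add' := fun a c => by simp [add_mul, sum_add_distrib]
        map_smul' := fun a c => by simp only [map_smul, SetLike.val_smul, Pi.smul_apply, smul_eq_mul, RingHom.id_apply, mul_sum, mul_assoc] }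
    refine ⟨fun e => Φ (Pi.single e 1), fun γ hγ => ?_⟩
    have h1 : Φ (T ⟨γ, hγ⟩) = ∑ e, γ e * x e := by
      show ∑ e, (P (T ⟨γ, hγ⟩) : E → ℤ) e * x e = _
      rw [hP]
    rw [pi_eq_sum_univ' (T ⟨γ, hγ⟩), map_sum] at h1
    simp only [mul_sub, sum_sub_distrib, ← h1, sub_eq_zero]
    refine sum_congr rfl fun e _ => ?_
    rw [map_smul]
    simp [T]
    ring
  · intro h C hC
    obtain ⟨σ, hσ, hσ1, hσ0⟩ := exists_circuit_cycle ends hC
    obtain ⟨e₀, he₀⟩ := hC.1
    obtain ⟨y, hy⟩ := h (Pi.single e₀ 1)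
    have h1 := hy σ hσ
    simp only [mul_sub, sum_sub_distrib] at h1
    rw [sum_eq_single e₀ (f := fun e => σ e * (Pi.single e₀ (1 : ℤ) : E → ℤ) e)
      (fun e _ hne => by simp [Pi.single_eq_of_ne hne]) (by simp), Pi.single_eq_same, mul_one, sub_eq_zero] at h1
    have hd : ((C.gcd l : ℕ) : ℤ) ∣ σ e₀ := by
      rw [h1]
      refine dvd_sum fun e _ => ?_
      by_cases he : e ∈ C
      · exact (dvd_mul_of_dvd_left (Int.natCast_dvd_natCast.2 (Finset.gcd_dvd he)) _).mul_left _
      · simp [hσ0 e he]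
    rcases hσ1 e₀ he₀ with h2 | h2 <;> rw [h2] at hd
    · exact Nat.dvd_one.1 (by exact_mod_cast hd)
    · exact Nat.dvd_one.1 (by exact_mod_cast (dvd_neg.1 hd))

end Groth.Agent.LabG
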