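import Groth.Agent.LabG.Cycle

/-!
# Cartier functions: elementary generators and monochrome decomposition
-/

set_option autoImplicit false

universe u v

open Finset

namespace Groth.Agent.LabG

variable {V E : Type u} [Fintype V] [Fintype E] [DecidableEq V] [DecidableEq E] (ends : E → V × V)

/-- The elementary Cartier labellings. -/
def elem (l : E → ℕ) : Set (V → ℤ) :=
  {g | ∃ n : ℕ, 0 < n ∧ (∀ v, (n : ℤ) ∣ g v) ∧ ∀ e, ¬ (l e ∣ n) → g (ends e).1 = g (ends e).2}

theorem mem_span_elem (l : E → ℕ) (hl : ∀ e, 0 < l e) (f : V → ℤ) (hf : LabGraph.IsCartier ends l f) :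
    f ∈ Submodule.span ℤ (elem ends l) := by
  classical
  set M := Submodule.span ℤ (elem ends l)
  set L := ∏ e, l e
  have hL : L ≠ 0 := prod_ne_zero_iff.2 fun e _ => (hl e).ne'
  have key : ∀ p : ℕ, p.Prime → ∀ (d k : ℕ), L.factorization p ≤ k + d → ∀ f : V → ℤ,
      (∀ e, ((p ^ (l e).factorization p : ℕ) : ℤ) ∣ f (ends e).1 - f (ends e).2) →
      (∀ v, ((p ^ k : ℕ) : ℤ) ∣ f v) → ∃ c : ℤ, ¬ (p : ℤ) ∣ c ∧ c • f ∈ M := by
    intro p hp
    set L0 := ordCompl[p] L
    have hL0 : ¬ (p : ℤ) ∣ L0 := by exact_mod_cast Nat.not_dvd_ordCompl hp hL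
    have hdvd : ∀ e k, (l e).factorization p ≤ k → l e ∣ L0 * p ^ k := fun e k hk => by
      rw [← Nat.ordProj_mul_ordCompl_eq_self (l e) p, mul_comm L0]
      exact mul_dvd_mul (pow_dvd_pow p hk) (Nat.ordCompl_dvd_ordCompl_of_dvd (dvd_prod_of_mem l (mem_univ e)) p)
    have hmem : ∀ k (g : V → ℤ), (∀ v, ((p ^ k : ℕ) : ℤ) ∣ g v) →
        (∀ e, k < (l e).factorization p → g (ends e).1 = g (ends e).2) → (L0 : ℤ) • g ∈ M := fun k g h1 h2 => by
      refine Submodule.subset_span ⟨L0 * p ^ k, Nat.pos_of_ne_zero (mul_ne_zero (Nat.ordCompl_pos p hL).ne'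
        (pow_ne_zero _ hp.ne_zero)), fun v => ?_, fun e he => ?_⟩
      · simp only [Pi.smul_apply, smul_eq_mul, Nat.cast_mul]
        exact mul_dvd_mul_left _ (h1 v)
      · simp only [Pi.smul_apply]
        rw [h2 e (lt_of_not_ge fun hle => he (hdvd e k hle))]
    have hle : ∀ e, (l e).factorization p ≤ L.factorization p := fun e =>
      (Nat.factorization_le_iff_dvd (hl e).ne' hL).2 (dvd_prod_of_mem l (mem_univ e)) p
    intro d
    induction d with
    | zero =>
      intro k hk f _ hdiv
      exact ⟨L0, hL0, hmem k f hdiv fun e he => absurd (hle e) (by omega)⟩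
    | succ d ih =>
      intro k hk f hcart hdiv
      let R : V → V → Prop := fun a b => ∃ e, k < (l e).factorization p ∧ (ends e).1 = a ∧ (ends e).2 = b
      let rep : V → V := fun v => (Quot.mk R v).out
      set g : V → ℤ := fun v => f (rep v) with hg
      have hcong : ∀ a b, Relation.EqvGen R a b → ((p ^ (k + 1) : ℕ) : ℤ) ∣ f a - f b := by
        intro a b h
        induction h with
        | rel a b h =>
          obtain ⟨e, he, rfl, rfl⟩ := h
          exact (Int.natCast_dvd_natCast.2 (pow_dvd_pow p he)).trans (hcart e)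
        | refl => simp
        | symm _ _ _ h => rw [← neg_sub, dvd_neg]; exact h
        | trans _ _ _ _ _ h1 h2 => simpa using dvd_add h1 h2
      have hclose : ∀ v, ((p ^ (k + 1) : ℕ) : ℤ) ∣ f v - g v := fun v =>
        hcong _ _ (Quot.eqvGen_exact (Quot.out_eq (Quot.mk R v)).symm)
      have hgconst : ∀ e, k < (l e).factorization p → g (ends e).1 = g (ends e).2 := fun e he => by
        simp only [hg, rep]
        rw [Quot.sound (r := R) ⟨e, he, rfl, rfl⟩]
      obtain ⟨c, hc, hcM⟩ := ih (k + 1) (by omega) (f - g) (fun e => by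
        simp only [Pi.sub_apply]
        rw [show f (ends e).1 - g (ends e).1 - (f (ends e).2 - g (ends e).2) =
          (f (ends e).1 - f (ends e).2) - (g (ends e).1 - g (ends e).2) by ring]
        refine dvd_sub (hcart e) ?_
        by_cases he : k < (l e).factorization p
        · rw [hgconst e he, sub_self]; exact dvd_zero _
        · exact (Int.natCast_dvd_natCast.2 (pow_dvd_pow p (not_lt.1 he))).trans
            (dvd_sub (hdiv _) (hdiv _))) hclose
      have hgM : (L0 : ℤ) • g ∈ M := hmem k g (fun v => hdiv _) hgconst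
      refine ⟨c * L0, fun h => ((Nat.prime_iff_prime_int.1 hp).dvd_mul.1 h).elim hc hL0, ?_⟩
      have : (c * (L0 : ℤ)) • f = (L0 : ℤ) • (c • (f - g)) + c • ((L0 : ℤ) • g) := by
        rw [smul_smul, smul_smul, mul_comm (L0 : ℤ) c, ← smul_add, sub_add_cancel]
      rw [this]
      exact add_mem (M.smul_mem _ hcM) (M.smul_mem _ hgM)
  let I : Ideal ℤ := Submodule.comap ((LinearMap.id : ℤ →ₗ[ℤ] ℤ).smulRight f) M
  have hI : ∀ p : ℕ, p.Prime → ∃ c ∈ I, ¬ (p : ℤ) ∣ c := fun p hp => by
    obtain ⟨c, hc, hcM⟩ := key p hp (L.factorization p) 0 (by omega) f (fun e =>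
      (Int.natCast_dvd_natCast.2 (Nat.ordProj_dvd (l e) p)).trans (hf e)) (fun v => by simp)
    exact ⟨c, by simpa [I] using hcM, hc⟩
  obtain ⟨g, hg⟩ := (IsPrincipalIdealRing.principal I).principal
  have hu : g.natAbs = 1 := by
    by_contra h1
    obtain ⟨c, hcI, hc⟩ := hI g.natAbs.minFac (Nat.minFac_prime h1)
    rw [hg, Ideal.mem_span_singleton] at hcI
    exact hc ((Int.natCast_dvd.2 g.natAbs.minFac_dvd).trans hcI)
  have h1 : (1 : ℤ) ∈ I := by
    rw [hg, Ideal.mem_span_singleton]; exact (Int.isUnit_iff_natAbs_eq.2 hu).dvd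
  simpa [I] using h1

theorem mem_closure_mono {L : Type v} (lab : E → L) (n : E → ℕ) (hconn : LabGraph.Connected ends)
    (hcirc : ∀ C : Finset E, LabGraph.IsCircuit ends C → ∀ e ∈ C, ∀ e' ∈ C, lab e = lab e')
    (f : V → ℤ) (hf : LabGraph.IsCartier ends n f) (v₀ : V) (hv₀ : f v₀ = 0) :
    f ∈ AddSubmonoid.closure {g : V → ℤ | LabGraph.IsCartier ends n g ∧
      (∃ B : Finset E, (∀ e ∈ B, ∀ e' ∈ B, lab e = lab e') ∧ ∀ e, e ∉ B → g (ends e).1 = g (ends e).2) ∧
        g v₀ = 0} := by
  classical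
  set x : L → E → ℤ := fun a e => if lab e = a then f (ends e).2 - f (ends e).1 else 0
  have hx : ∀ a, ∃ g : V → ℤ, g v₀ = 0 ∧ ∀ e, g (ends e).2 - g (ends e).1 = x a e := by
    refine fun a => exists_potential ends hconn (x a) (fun γ hγ => cycle_ortho ends ?_ γ hγ) v₀
    intro C hC σ hσ hσ0
    have hall : ∑ e, σ e * (f (ends e).2 - f (ends e).1) = 0 := by
      have h : ∑ v, f v * bd ends σ v = 0 := by simp [hσ]
      rw [← h]
      simp only [bd_apply, mul_sum]
      rw [sum_comm]
      refine sum_congr rfl fun e _ => ?_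
      simp [inc, mul_sub, mul_ite, sum_sub_distrib]
      ring
    obtain ⟨e₀, he₀⟩ := hC.1
    by_cases ha : lab e₀ = a
    · rw [← hall]
      refine sum_congr rfl fun e _ => ?_
      by_cases he : e ∈ C
      · simp only [x, if_pos ((hcirc C hC e he e₀ he₀).trans ha)]
      · simp [hσ0 e he]
    · refine sum_eq_zero fun e _ => ?_
      by_cases he : e ∈ C
      · simp only [x, if_neg (fun h => ha ((hcirc C hC e₀ he₀ e he).trans h)), mul_zero]
      · simp [hσ0 e he]
  choose g hg0 hg using hx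
  set A := univ.image lab
  have hfsum : f = ∑ a ∈ A, g a := by
    funext v
    have := eq_of_edges ends hconn (fun w => f w - ∑ a ∈ A, g a w) (fun e => ?_) v v₀
    · simp only [hv₀, hg0, sum_const_zero, sub_zero, sub_eq_zero] at this
      rw [this, Finset.sum_apply]
    · have hs : ∑ a ∈ A, g a (ends e).2 - ∑ a ∈ A, g a (ends e).1 = f (ends e).2 - f (ends e).1 := by
        rw [← sum_sub_distrib, sum_congr rfl fun a _ => hg a e]
        simp only [x, sum_ite_eq, A, mem_image, mem_univ, true_and, exists_apply_eq_apply, if_true]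
      linarith
  rw [hfsum]
  refine sum_mem fun a _ => AddSubmonoid.subset_closure ⟨fun e => ?_, ⟨univ.filter fun e => lab e = a,
    fun e he e' he' => ?_, fun e he => ?_⟩, hg0 a⟩
  · rw [← neg_sub, dvd_neg, hg]
    simp only [x]
    split_ifs
    · rw [← neg_sub, dvd_neg]; exact hf e
    · exact dvd_zero _
  · simp only [mem_filter] at he he'
    rw [he.2, he'.2]
  · simp only [mem_filter, mem_univ, true_and] at he
    have := hg a e
    simp only [x, if_neg he, sub_eq_zero] at this
    exact this.symm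

end Groth.Agent.LabG
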