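import Groth.Agent.LabG.BI

/-!
# Balanced multidegrees and exceptional vertices
-/

set_option autoImplicit false

universe u

open Finset

namespace Groth.Agent.LabG

variable {V E : Type u} [Fintype V] [Fintype E] [DecidableEq V] [DecidableEq E] (ends : E → V × V) (w : V → ℕ)

local notation "K" => LabGraph.canDeg ends w Finset.univ

/-- The indicator of an edge crossing a vertex set. -/
def crossI (Y : Finset V) (e : E) : ℤ :=
  ((if (ends e).1 ∈ Y then (1 : ℤ) else 0) - (if (ends e).2 ∈ Y then 1 else 0)) ^ 2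

/-- The ends of an edge at a vertex, as an integer. -/
def atI (v : V) (e : E) : ℤ := (if (ends e).1 = v then 1 else 0) + (if (ends e).2 = v then 1 else 0)

omit [DecidableEq E] in
theorem exc_sum_atI {v : V} (h : LabGraph.IsExceptional ends w v) : ∑ e, atI ends v e = 2 := by
  have h2 : (LabGraph.cut ends {v} : ℤ) = 2 := by exact_mod_cast h.2.2
  rw [cast_cut] at h2
  refine (sum_congr rfl fun e _ => ?_).trans h2
  have := h.2.1 e
  simp only [atI, mem_singleton]
  split_ifs with h1 h3 <;> norm_num
  exact absurd (Prod.ext h1 h3) this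

omit [DecidableEq E] in
theorem exc_canDeg {v : V} (h : LabGraph.IsExceptional ends w v) : LabGraph.canDeg ends w {v} = 0 := by
  rw [LabGraph.canDeg, sum_singleton, h.1]
  have : (LabGraph.endCount ends univ v : ℤ) = 2 := by
    rw [← exc_sum_atI ends w h, LabGraph.endCount, Nat.cast_sum]
    exact sum_congr rfl fun e _ => by simp [atI]
  rw [this]; norm_num

omit [DecidableEq E] in
/-- Adding an exceptional vertex to a set. -/
theorem cut_insert_exc {v : V} (h : LabGraph.IsExceptional ends w v) {Y : Finset V} (hv : v ∉ Y) :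
    (LabGraph.cut ends (insert v Y) : ℤ) = LabGraph.cut ends Y + 2
      - 2 * ∑ e, atI ends v e * (if (ends e).1 ∈ Y ∨ (ends e).2 ∈ Y then 1 else 0) := by
  have h2 := exc_sum_atI ends w h
  rw [cast_cut, cast_cut]
  conv_rhs => arg 1; arg 2; rw [← h2]
  rw [mul_sum, ← sum_add_distrib, ← sum_sub_distrib]
  refine sum_congr rfl fun e _ => ?_
  have := h.2.1 e
  by_cases h1 : (ends e).1 = v <;> by_cases h2 : (ends e).2 = v
  · exact absurd (Prod.ext h1 h2) this
  · by_cases h3 : (ends e).2 ∈ Y <;> simp [atI, h1, h2, h3, hv]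
  · by_cases h3 : (ends e).1 ∈ Y <;> simp [atI, h1, h2, h3, hv]
  · by_cases h3 : (ends e).1 ∈ Y <;> by_cases h4 : (ends e).2 ∈ Y <;> simp [atI, h1, h2, h3, h4]

omit [DecidableEq E] in
theorem strict_unique (hX : LabGraph.IsQuasistableGraph ends w) (hK : 0 < K) (d d' : V → ℤ)
    (hBI : LabGraph.SatisfiesBI ends w d) (hone : ∀ v, LabGraph.IsExceptional ends w v → d v = 1)
    (hone' : ∀ v, LabGraph.IsExceptional ends w v → d' v = 1)
    (hstrict : ∀ Y : Finset V, Y.Nonempty → Y ≠ univ →
      2 * (K * (∑ v ∈ Y, d v) - (∑ v, d v) * LabGraph.canDeg ends w Y) = (LabGraph.cut ends Y : ℤ) * K →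
      ∀ e : E, (((ends e).1 ∈ Y ∧ (ends e).2 ∉ Y) ∨ ((ends e).1 ∉ Y ∧ (ends e).2 ∈ Y)) →
        (LabGraph.IsExceptional ends w (ends e).1 ∨ LabGraph.IsExceptional ends w (ends e).2))
    (m : ℕ) (Z : Fin m → Finset V)
    (hext : ∀ i, 2 * (K * (∑ v ∈ Z i, d v) - (∑ v, d v) * LabGraph.canDeg ends w (Z i)) =
      (LabGraph.cut ends (Z i) : ℤ) * K)
    (hsum : ∀ v, d' v = d v + ∑ i, LabGraph.twist ends (fun u => if u ∈ Z i then (1 : ℤ) else 0) v) : d = d' := by
  classical
  -- contribution of each extremal set at an exceptional vertex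
  set t := fun i v => LabGraph.twist ends (fun u => if u ∈ Z i then (1 : ℤ) else 0) v
  have htw : ∀ v, LabGraph.IsExceptional ends w v → ∀ i,
      (v ∈ Z i → t i v ≤ 0 ∧ (t i v = 0 → ∀ e, ((ends e).1 = v → (ends e).2 ∈ Z i) ∧
        ((ends e).2 = v → (ends e).1 ∈ Z i))) ∧
      (v ∉ Z i → t i v = 0 ∧ ∀ e, ((ends e).1 = v → (ends e).2 ∉ Z i) ∧ ((ends e).2 = v → (ends e).1 ∉ Z i)) := by
    intro v hv i
    set F : E → ℤ := fun e => (if (ends e).1 = v then (if (ends e).2 ∈ Z i then (1 : ℤ) else 0) -
        (if (ends e).1 ∈ Z i then (1 : ℤ) else 0) else 0) +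
        (if (ends e).2 = v then (if (ends e).1 ∈ Z i then (1 : ℤ) else 0) -
        (if (ends e).2 ∈ Z i then (1 : ℤ) else 0) else 0)
    have htF : t i v = ∑ e, F e := rfl
    refine ⟨fun hin => ?_, fun hout => ?_⟩
    · have hF : ∀ e ∈ univ, F e ≤ 0 := fun e _ => by
        by_cases h1 : (ends e).1 = v <;> by_cases h2 : (ends e).2 = v <;> simp [F, h1, h2, hin] <;>
          split_ifs <;> norm_num
      refine ⟨htF.trans_le (sum_nonpos hF), fun h0 e => ?_⟩
      have he := (sum_eq_zero_iff_of_nonpos hF).1 (htF.symm.trans h0) e (mem_univ e)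
      constructor
      · intro hh
        have h2 : (ends e).2 ≠ v := fun h2 => hv.2.1 e (Prod.ext hh h2)
        by_contra hc
        simp [F, hh, h2, hc, hin] at he
      · intro hh
        have h1 : (ends e).1 ≠ v := fun h1 => hv.2.1 e (Prod.ext h1 hh)
        by_contra hc
        simp [F, hh, h1, hc, hin] at he
    · have hc0 : ∀ e, ((ends e).1 = v → (ends e).2 ∉ Z i) ∧ ((ends e).2 = v → (ends e).1 ∉ Z i) := by
        have hins := hBI (insert v (Z i))
        rw [sum_insert hout, hone v hv, show LabGraph.canDeg ends w (insert v (Z i)) = LabGraph.canDeg ends w (Z i) by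
          rw [LabGraph.canDeg, sum_insert hout, ← sum_singleton (fun v => 2 * (w v : ℤ) - 2 +
            (LabGraph.endCount ends univ v : ℤ)) v, ← LabGraph.canDeg, exc_canDeg ends w hv, zero_add]; rfl,
          cut_insert_exc ends w hv hout] at hins
        have h1 := le_abs_self (K * (1 + ∑ v ∈ Z i, d v) - (∑ v, d v) * LabGraph.canDeg ends w (Z i))
        have h2 := hext i
        set S := ∑ e, atI ends v e * (if (ends e).1 ∈ Z i ∨ (ends e).2 ∈ Z i then (1 : ℤ) else 0) with hS
        have h3 : 2 * S * K ≤ 0 := by linarith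
        have h4 : S ≤ 0 := by
          by_contra hpos
          push Not at hpos
          nlinarith [mul_pos hpos hK]
        have hnn : ∀ e ∈ univ, 0 ≤ atI ends v e * (if (ends e).1 ∈ Z i ∨ (ends e).2 ∈ Z i then (1 : ℤ) else 0) :=
          fun e _ => by simp only [atI]; split_ifs <;> norm_num
        intro e
        have he := (sum_eq_zero_iff_of_nonneg hnn).1 (le_antisymm h4 (sum_nonneg hnn)) e (mem_univ e)
        constructor <;> intro hh hc <;> simp [atI, hh, hc] at he <;> split_ifs at he <;> simp_all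
      refine ⟨htF.trans (sum_eq_zero fun e _ => ?_), hc0⟩
      have := hc0 e
      simp only [F]
      split_ifs <;> simp_all
  have hnocross : ∀ i e, ((ends e).1 ∈ Z i ↔ (ends e).2 ∈ Z i) := by
    have key : ∀ v, LabGraph.IsExceptional ends w v → ∀ i e,
        ((ends e).1 = v ∨ (ends e).2 = v) → ((ends e).1 ∈ Z i ↔ (ends e).2 ∈ Z i) := by
      intro v hv i e he
      have hz : ∑ j, t j v = 0 := by
        have := hsum v
        rw [hone v hv, hone' v hv] at this
        simp only [t]
        linarith
      have hle : ∀ j ∈ (univ : Finset (Fin m)), t j v ≤ 0 := fun j _ => by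
        by_cases hj : v ∈ Z j
        · exact ((htw v hv j).1 hj).1
        · exact ((htw v hv j).2 hj).1.le
      have h0 := (sum_eq_zero_iff_of_nonpos hle).1 hz i (mem_univ i)
      by_cases hi : v ∈ Z i
      · have := ((htw v hv i).1 hi).2 h0 e
        rcases he with h | h
        · simp [h, hi, this.1 h]
        · simp [h, hi, this.2 h]
      · have := ((htw v hv i).2 hi).2 e
        rcases he with h | h
        · simp [h, hi, this.1 h]
        · simp [h, hi, this.2 h]
    intro i e
    by_contra hne
    have hcr : ((ends e).1 ∈ Z i ∧ (ends e).2 ∉ Z i) ∨ ((ends e).1 ∉ Z i ∧ (ends e).2 ∈ Z i) := by tauto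
    have hne0 : (Z i).Nonempty := by rcases hcr with h | h <;> [exact ⟨_, h.1⟩; exact ⟨_, h.2⟩]
    have hnu : Z i ≠ univ := fun h => by simp [h] at hcr
    rcases hstrict (Z i) hne0 hnu (hext i) e hcr with h | h
    · exact hne (key _ h i e (Or.inl rfl))
    · exact hne (key _ h i e (Or.inr rfl))
  funext v
  rw [hsum v, sum_eq_zero fun i _ => ?_, add_zero]
  refine sum_eq_zero fun e _ => ?_
  simp [hnocross i e]

omit [DecidableEq E] in
theorem pullback_BI (hZ : LabGraph.IsQuasistableGraph ends w) (hK : 0 ≤ K) (S : Finset V)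
    (hS : ∀ v ∈ S, LabGraph.IsExceptional ends w v) (dt : V → ℤ) (hzero : ∀ v ∈ S, dt v = 0)
    (hat : Finset V → Finset V)
    (hhat : ∀ W v, v ∈ hat W ↔ (v ∈ W ∨ (v ∈ S ∧ ∀ e : E, ((ends e).1 = v → (ends e).2 ∈ W) ∧
      ((ends e).2 = v → (ends e).1 ∈ W))))
    (hBI : ∀ W : Finset V, Disjoint W S →
      2 * |K * (∑ v ∈ W, dt v) - (∑ v, dt v) * LabGraph.canDeg ends w (hat W)| ≤ (LabGraph.cut ends (hat W) : ℤ) * K) :
    LabGraph.SatisfiesBI ends w dt := by
  classical
  intro Y
  set W := Y \ S
  have hWS : Disjoint W S := sdiff_disjoint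
  have hd : ∑ v ∈ Y, dt v = ∑ v ∈ W, dt v := by
    refine (sum_subset sdiff_subset fun v hv hn => ?_).symm
    exact hzero v (by simpa [W, hv] using hn)
  have hc : ∀ X : Finset V, (∀ v, v ∉ S → (v ∈ X ↔ v ∈ W)) → W ⊆ X →
      LabGraph.canDeg ends w X = LabGraph.canDeg ends w W := by
    intro X hX hsub
    refine (sum_subset hsub fun v hv hn => ?_).symm
    have hvS : v ∈ S := by_contra fun hns => hn ((hX v hns).1 hv)
    have := exc_canDeg ends w (hS v hvS)
    simpa [LabGraph.canDeg] using this
  have hY : ∀ v, v ∉ S → (v ∈ Y ↔ v ∈ W) := fun v hv => by simp [W, hv]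
  have hH : ∀ v, v ∉ S → (v ∈ hat W ↔ v ∈ W) := fun v hv => by simp [hhat, hv]
  have hcY := hc Y hY sdiff_subset
  have hcH := hc (hat W) hH fun v hv => (hhat W v).2 (Or.inl hv)
  -- edges meet `S` at most once
  have honce : ∀ e, ∑ v ∈ S, atI ends v e = if (ends e).1 ∈ S ∨ (ends e).2 ∈ S then 1 else 0 := by
    intro e
    have hnot : ¬ ((ends e).1 ∈ S ∧ (ends e).2 ∈ S) := fun ⟨h1, h2⟩ => by
      by_cases heq : (ends e).1 = (ends e).2
      · exact (hS _ h1).2.1 e (Prod.ext rfl heq.symm)
      · exact hZ.2 e heq ⟨hS _ h1, hS _ h2⟩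
    simp only [atI, sum_add_distrib, sum_ite_eq]
    split_ifs <;> first | rfl | (exfalso; tauto)
  have hdec : ∀ X : Finset V, (LabGraph.cut ends X : ℤ) =
      ∑ e, (if (ends e).1 ∈ S ∨ (ends e).2 ∈ S then 0 else crossI ends X e) +
        ∑ v ∈ S, ∑ e, atI ends v e * crossI ends X e := fun X => by
    rw [cast_cut, sum_comm (s := S), ← sum_add_distrib]
    refine sum_congr rfl fun e _ => ?_
    rw [← sum_mul, honce]
    show crossI ends X e = _
    split_ifs <;> simp
  have hcut : (LabGraph.cut ends (hat W) : ℤ) ≤ LabGraph.cut ends Y := by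
    rw [hdec, hdec]
    refine add_le_add (le_of_eq (sum_congr rfl fun e _ => ?_)) (sum_le_sum fun v hv => ?_)
    · split_ifs with h
      · rfl
      · push Not at h
        simp only [crossI, hY _ h.1, hY _ h.2, hH _ h.1, hH _ h.2]
    · have hex := hS v hv
      have hnb : ∀ e, atI ends v e ≠ 0 → ∃ x, x ∉ S ∧ x ≠ v ∧ atI ends v e = 1 ∧
          ∀ X : Finset V, crossI ends X e = ((if v ∈ X then (1 : ℤ) else 0) - (if x ∈ X then 1 else 0)) ^ 2 := by
        intro e he
        have hl := hex.2.1 e
        by_cases h1 : (ends e).1 = v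
        · have h2 : (ends e).2 ≠ v := fun h2 => hl (Prod.ext h1 h2)
          refine ⟨(ends e).2, fun hs => hZ.2 e (h1.symm ▸ Ne.symm h2) ⟨h1.symm ▸ hex, hS _ hs⟩, h2,
            by simp [atI, h1, h2], fun X => by simp [crossI, h1]⟩
        · have h2 : (ends e).2 = v := by by_contra h2; simp [atI, h1, h2] at he
          refine ⟨(ends e).1, fun hs => hZ.2 e (h2.symm ▸ h1) ⟨hS _ hs, h2.symm ▸ hex⟩, h1,
            by simp [atI, h1, h2], fun X => by simp only [crossI, h2]; ring⟩
      by_cases hin : v ∈ hat W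
      · refine le_trans (le_of_eq (sum_eq_zero fun e _ => ?_)) (sum_nonneg fun e _ =>
          mul_nonneg (by simp only [atI]; split_ifs <;> norm_num) (sq_nonneg _))
        by_cases he : atI ends v e = 0
        · simp [he]
        obtain ⟨x, hxS, hxv, -, hx⟩ := hnb e he
        have hvW : v ∉ W := by simp [W, hv]
        have hall := (((hhat W v).1 hin).resolve_left hvW).2 e
        have hxW : x ∈ hat W := by
          by_cases h1 : (ends e).1 = v
          · have := hx {(ends e).2}
            have h2 : (ends e).2 ≠ v := fun h2 => hex.2.1 e (Prod.ext h1 h2)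
            simp [crossI, h1, h2.symm, hxv, eq_comm] at this
            exact (hhat W x).2 (Or.inl (by subst this; exact hall.1 h1))
          · have h2 : (ends e).2 = v := by by_contra h2; simp [atI, h1, h2] at he
            have := hx {(ends e).1}
            simp [crossI, h2, Ne.symm h1, hxv, eq_comm] at this
            exact (hhat W x).2 (Or.inl (by subst this; exact hall.2 h2))
        rw [hx, if_pos hin, if_pos hxW]; ring
      · by_cases hvY : v ∈ Y
        · -- at least one neighbour of `v` lies outside `W`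
          obtain ⟨e₀, he₀, x₀, hx₀S, hx₀v, hx₀⟩ : ∃ e, atI ends v e = 1 ∧ ∃ x, x ∉ S ∧ x ∉ W ∧
              ∀ X : Finset V, crossI ends X e = ((if v ∈ X then (1 : ℤ) else 0) - (if x ∈ X then 1 else 0)) ^ 2 := by
            by_contra hno
            push Not at hno
            refine hin ((hhat W v).2 (Or.inr ⟨hv, fun e => ⟨fun h1 => ?_, fun h2 => ?_⟩⟩))
            · have h2 : (ends e).2 ≠ v := fun h2 => hex.2.1 e (Prod.ext h1 h2)
              by_contra hw
              obtain ⟨X, hX⟩ := hno e (by simp [atI, h1, h2]) (ends e).2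
                (fun hs => hZ.2 e (h1.symm ▸ Ne.symm h2) ⟨h1.symm ▸ hex, hS _ hs⟩) hw
              exact hX (by simp [crossI, h1])
            · have h1 : (ends e).1 ≠ v := fun h1 => hex.2.1 e (Prod.ext h1 h2)
              by_contra hw
              obtain ⟨X, hX⟩ := hno e (by simp [atI, h1, h2]) (ends e).1
                (fun hs => hZ.2 e (h2.symm ▸ h1) ⟨hS _ hs, h2.symm ▸ hex⟩) hw
              exact hX (by simp only [crossI, h2]; ring)
          have hA : ∀ e, atI ends v e * crossI ends (hat W) e + atI ends v e * crossI ends Y e = atI ends v e := by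
            intro e
            by_cases he : atI ends v e = 0
            · simp [he]
            obtain ⟨x, hxS, hxv, ha, hx⟩ := hnb e he
            rw [hx, hx, ha, if_neg hin, if_pos hvY]
            simp only [hH x hxS, hY x hxS]
            split_ifs <;> norm_num
          have htot : ∑ e, atI ends v e * crossI ends (hat W) e + ∑ e, atI ends v e * crossI ends Y e = 2 := by
            rw [← sum_add_distrib, sum_congr rfl fun e _ => hA e, exc_sum_atI ends w hex]
          have hone : 1 ≤ ∑ e, atI ends v e * crossI ends Y e := by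
            refine le_trans ?_ (single_le_sum (fun e _ =>
              mul_nonneg (by simp only [atI]; split_ifs <;> norm_num) (sq_nonneg _)) (mem_univ e₀))
            show (1 : ℤ) ≤ atI ends v e₀ * crossI ends Y e₀
            rw [he₀, hx₀, if_pos hvY, if_neg (fun h => hx₀v ((hY x₀ hx₀S).1 h))]
            norm_num
          linarith
        · refine le_of_eq (sum_congr rfl fun e _ => ?_)
          by_cases he : atI ends v e = 0
          · simp [he]
          obtain ⟨x, hxS, hxv, ha, hx⟩ := hnb e he
          rw [hx, hx, if_neg hin, if_neg hvY]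
          simp only [hH x hxS, hY x hxS]
  have h := hBI W hWS
  rw [hd, hcY, ← hcH]
  exact h.trans (mul_le_mul_of_nonneg_right hcut hK)

end Groth.Agent.LabG
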